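import Mathlib
import Cfsg.Agent.H47.SymSp

/-!
# Frames of five anticommuting self-adjoint involutions in `Sp₄`

Matrices of determinant one preserving the alternating form act on the five-space spanned by a frame;
everything here is phrased with matrices, the inverse of an isometry being its adjoint.
-/

set_option autoImplicit false
set_option linter.unusedSectionVars false

open Matrix
open H49 (adjS adjS_mul adjS_one adjS_add adjS_smul adjS_zero adjS_sub adjS_neg adjS_adjS)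

namespace H48.ExtraFour

variable {F : Type*} [Field F]

local notation "SI" => (Fin 2 ⊕ Fin 2)
local notation "MS" => Matrix (Fin 2 ⊕ Fin 2) (Fin 2 ⊕ Fin 2) F

/-- A matrix is the matrix of a member of `M`. -/
def InM (M : Subgroup (GL SI F)) (X : MS) : Prop := ∃ g ∈ M, (g : MS) = X

/-- The element of the five-space with given coordinates. -/
def fv (e : Fin 5 → MS) (x : Fin 5 → F) : MS := ∑ i, x i • e i

/-- Five anticommuting self-adjoint involutions in `M` spanning the self-adjoint trace-zero matrices. -/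
structure Quad (M : Subgroup (GL SI F)) (e : Fin 5 → MS) : Prop where
  two : (2 : F) ≠ 0
  sub : M ≤ Cfsg.spGL 2 F
  sq : ∀ i, e i * e i = 1
  anti : ∀ i j, i ≠ j → e i * e j = -(e j * e i)
  adj : ∀ i, adjS (e i) = e i
  mem : ∀ i, InM M (e i)
  span : ∀ X : MS, adjS X = X → X.trace = 0 → ∃ x, X = fv e x
  scal : ∀ X : MS, (∀ i, X * e i = e i * X) → ∃ c : F, X = c • 1

/-- A frame whose monomial stabiliser in `Sp₄` lies in `M`. -/
structure Fr (M : Subgroup (GL SI F)) (e : Fin 5 → MS) : Prop extends Quad M e where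
  mono : ∀ X : MS, adjS X * X = 1 → (∀ i, ∃ j, ∃ s : F, X * e i * adjS X = s • e j) → InM M X

/-- The conjugates of the first member of a frame under `M`. -/
def Cls (M : Subgroup (GL SI F)) (e : Fin 5 → MS) (X : MS) : Prop :=
  ∃ Y, InM M Y ∧ Y * e 0 * adjS Y = X

/-- The coordinate vectors of these conjugates. -/
def Orb (M : Subgroup (GL SI F)) (e : Fin 5 → MS) (x : Fin 5 → F) : Prop := Cls M e (fv e x)

section fv

variable (e : Fin 5 → Matrix (Fin 2 ⊕ Fin 2) (Fin 2 ⊕ Fin 2) F)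

lemma fv_add (x y : Fin 5 → F) : fv e (x + y) = fv e x + fv e y := by
  simp [fv, add_smul, Finset.sum_add_distrib]

lemma fv_smul (c : F) (x : Fin 5 → F) : fv e (c • x) = c • fv e x := by
  simp [fv, Finset.smul_sum, smul_smul]

lemma fv_sub (x y : Fin 5 → F) : fv e (x - y) = fv e x - fv e y := by
  simp [fv, sub_smul, Finset.sum_sub_distrib]

lemma fv_neg (x : Fin 5 → F) : fv e (-x) = -fv e x := by
  simp [fv, Finset.sum_neg_distrib]

lemma fv_single (i : Fin 5) (c : F) : fv e (Pi.single i c) = c • e i := by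
  rw [fv, Finset.sum_eq_single i (fun j _ hj => by simp [Pi.single_eq_of_ne hj]) (by simp)]
  simp

lemma fv_comp (σ : Equiv.Perm (Fin 5)) (s x : Fin 5 → F) :
    fv (fun i => s i • e (σ i)) x = fv e (fun j => x (σ.symm j) * s (σ.symm j)) := by
  unfold fv
  rw [← Equiv.sum_comp σ (fun j => (x (σ.symm j) * s (σ.symm j)) • e j)]
  simp [smul_smul]

lemma conj_fv (Y : MS) (x : Fin 5 → F) : Y * fv e x * adjS Y = fv (fun i => Y * e i * adjS Y) x := by
  simp [fv, Finset.mul_sum, Finset.sum_mul]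

end fv

variable {M : Subgroup (GL (Fin 2 ⊕ Fin 2) F)} {e : Fin 5 → Matrix (Fin 2 ⊕ Fin 2) (Fin 2 ⊕ Fin 2) F}

lemma InM.mul {X Y : MS} (hX : InM M X) (hY : InM M Y) : InM M (X * Y) := by
  obtain ⟨g, hg, rfl⟩ := hX
  obtain ⟨h, hh, rfl⟩ := hY
  exact ⟨g * h, mul_mem hg hh, Units.val_mul g h⟩

lemma inM_one : InM M (1 : MS) := ⟨1, one_mem M, rfl⟩

lemma InM.pow {X : MS} (hX : InM M X) : ∀ k : ℕ, InM M (X ^ k)
  | 0 => by rw [pow_zero]; exact inM_one
  | k + 1 => by rw [pow_succ]; exact (InM.pow hX k).mul hX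

namespace Quad

variable (Q : Quad M e)
include Q

lemma adj_mul {X : MS} (hX : InM M X) : adjS X * X = 1 := by
  obtain ⟨g, hg, rfl⟩ := hX
  exact H47.mem_spGL_adj.mp (Q.sub hg)

lemma mul_adj {X : MS} (hX : InM M X) : X * adjS X = 1 := mul_eq_one_comm.mp (Q.adj_mul hX)

lemma inM_adj {X : MS} (hX : InM M X) : InM M (adjS X) := by
  obtain ⟨g, hg, rfl⟩ := hX
  exact ⟨g⁻¹, inv_mem hg, (H47.adjS_eq_inv (Q.sub hg)).symm⟩

lemma inM_neg_one : InM M (-1 : MS) := by
  have h : InM M (e 0 * e 1 * (e 0 * e 1)) := ((Q.mem 0).mul (Q.mem 1)).mul ((Q.mem 0).mul (Q.mem 1))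
  rwa [show e 0 * e 1 * (e 0 * e 1) = -1 by
    calc e 0 * e 1 * (e 0 * e 1) = e 0 * (e 1 * e 0) * e 1 := by simp only [mul_assoc]
      _ = _ := by rw [Q.anti 1 0 (by decide), mul_neg, ← mul_assoc, Q.sq, one_mul, neg_mul, Q.sq]] at h

lemma inM_neg {X : MS} (hX : InM M X) : InM M (-X) := by
  simpa using Q.inM_neg_one.mul hX

lemma adjS_fv (x : Fin 5 → F) : adjS (fv e x) = fv e x := by
  rw [fv, H49.adjS_sum]
  exact Finset.sum_congr rfl fun i _ => by rw [adjS_smul, Q.adj]

lemma anticomm (x y : Fin 5 → F) :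
    fv e x * fv e y + fv e y * fv e x = (2 * (x ⬝ᵥ y)) • (1 : MS) := by
  have h1 : fv e x * fv e y = ∑ i, ∑ j, (x i * y j) • (e i * e j) := by
    rw [fv, fv, Finset.sum_mul_sum]
    exact Finset.sum_congr rfl fun i _ => Finset.sum_congr rfl fun j _ => smul_mul_smul_comm _ _ _ _
  have h2 : fv e y * fv e x = ∑ i, ∑ j, (x i * y j) • (e j * e i) := by
    rw [fv, fv, Finset.sum_mul_sum, Finset.sum_comm]
    exact Finset.sum_congr rfl fun i _ => Finset.sum_congr rfl fun j _ => by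
      rw [smul_mul_smul_comm, mul_comm]
  rw [h1, h2, ← Finset.sum_add_distrib, dotProduct, Finset.mul_sum, Finset.sum_smul]
  refine Finset.sum_congr rfl fun i _ => ?_
  rw [← Finset.sum_add_distrib, Finset.sum_eq_single i]
  · rw [← smul_add, Q.sq, ← two_smul F (1 : MS), smul_smul]
    congr 1
    ring
  · intro j _ hj
    rw [← smul_add, Q.anti i j (Ne.symm hj), neg_add_cancel, smul_zero]
  · simp

lemma fv_sq (x : Fin 5 → F) : fv e x * fv e x = (x ⬝ᵥ x) • (1 : MS) := by
  have h := Q.anticomm x x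
  rw [← two_smul F (fv e x * fv e x), ← smul_smul] at h
  exact smul_right_injective _ Q.two h

lemma fv_anti {x y : Fin 5 → F} (h : x ⬝ᵥ y = 0) : fv e x * fv e y = -(fv e y * fv e x) := by
  have := Q.anticomm x y
  rw [h, mul_zero, zero_smul] at this
  exact eq_neg_of_add_eq_zero_left this

lemma trace_one : (1 : MS).trace = 4 := by simp

lemma trace_anti {X Y : MS} (hY : Y * Y = 1) (h : Y * X = -(X * Y)) : X.trace = 0 := by
  have h1 : (Y * X * Y).trace = X.trace := by rw [Matrix.trace_mul_comm, ← mul_assoc, hY, one_mul]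
  rw [h, neg_mul, mul_assoc, hY, mul_one, Matrix.trace_neg] at h1
  have : (2 : F) * X.trace = 0 := by linear_combination -h1
  exact (mul_eq_zero.mp this).resolve_left Q.two

lemma trace_e (i : Fin 5) : (e i).trace = 0 :=
  Q.trace_anti (Q.sq (i + 1)) (Q.anti _ _ (by fin_cases i <;> decide))

lemma trace_ee {i j : Fin 5} (h : i ≠ j) : (e i * e j).trace = 0 :=
  Q.trace_anti (Q.sq i) (by
    rw [← mul_assoc, Q.sq, one_mul, Q.anti i j h, neg_mul, mul_assoc, Q.sq, mul_one, neg_neg])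

lemma trace_fv (x : Fin 5 → F) : (fv e x).trace = 0 := by
  simp [fv, Matrix.trace_sum, Q.trace_e]

lemma four : (4 : F) ≠ 0 := by
  rw [show (4 : F) = 2 * 2 by norm_num]
  exact mul_ne_zero Q.two Q.two

lemma coord (x : Fin 5 → F) (i : Fin 5) : (fv e x * e i).trace = 4 * x i := by
  simp only [fv, Finset.sum_mul, Matrix.trace_sum, smul_mul_assoc, Matrix.trace_smul]
  rw [Finset.sum_eq_single i (fun j _ hj => by rw [Q.trace_ee hj, smul_zero]) (by simp), Q.sq, Q.trace_one,
    smul_eq_mul, mul_comm]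

lemma fv_inj {x y : Fin 5 → F} (h : fv e x = fv e y) : x = y := by
  funext i
  have h1 := Q.coord x i
  rw [h, Q.coord] at h1
  exact (mul_left_cancel₀ Q.four h1).symm

lemma fv_eq_zero {x : Fin 5 → F} (h : fv e x = 0) : x = 0 :=
  Q.fv_inj (by rw [h]; simp [fv])

lemma one_ne_neg : (1 : MS) ≠ -1 := fun h => by
  have h1 : (1 : F) = -1 := by simpa using congrFun (congrFun h (Sum.inl 0)) (Sum.inl 0)
  exact Q.two (by linear_combination h1)

lemma conj_mem_span {X : MS} {x : Fin 5 → F} {Y : MS} (hY : InM M Y) (hX : X = fv e x) :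
    ∃ y, Y * X * adjS Y = fv e y :=
  Q.span _ (by rw [adjS_mul, adjS_mul, adjS_adjS, hX, Q.adjS_fv, mul_assoc]) (by
    rw [Matrix.trace_mul_comm, ← mul_assoc, Q.adj_mul hY, one_mul, hX, Q.trace_fv])

lemma conj_mul {Y : MS} (hY : InM M Y) (A B : MS) :
    Y * A * adjS Y * (Y * B * adjS Y) = Y * (A * B) * adjS Y := by
  calc Y * A * adjS Y * (Y * B * adjS Y) = Y * A * (adjS Y * Y) * B * adjS Y := by simp only [mul_assoc]
    _ = _ := by rw [Q.adj_mul hY]; simp only [mul_one, mul_assoc]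

lemma conj_conj {Y : MS} (hY : InM M Y) (A : MS) : adjS Y * (Y * A * adjS Y) * Y = A := by
  calc adjS Y * (Y * A * adjS Y) * Y = adjS Y * Y * A * (adjS Y * Y) := by simp only [mul_assoc]
    _ = A := by rw [Q.adj_mul hY, one_mul, mul_one]

lemma cls_conj {X Y : MS} (hX : Cls M e X) (hY : InM M Y) : Cls M e (Y * X * adjS Y) := by
  obtain ⟨Z, hZ, rfl⟩ := hX
  exact ⟨Y * Z, hY.mul hZ, by rw [adjS_mul]; simp only [mul_assoc]⟩

lemma cls_inM {X : MS} (hX : Cls M e X) : InM M X := by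
  obtain ⟨Z, hZ, rfl⟩ := hX
  exact (hZ.mul (Q.mem 0)).mul (Q.inM_adj hZ)

lemma cls_self : Cls M e (e 0) := ⟨1, inM_one, by rw [adjS_one, one_mul, mul_one]⟩

lemma cls_exists {X : MS} (hX : Cls M e X) : ∃ x, X = fv e x := by
  obtain ⟨Z, hZ, rfl⟩ := hX
  exact Q.conj_mem_span hZ (x := Pi.single 0 1) (by rw [fv_single, one_smul])

lemma orb_inM {x : Fin 5 → F} (hx : Orb M e x) : InM M (fv e x) := Q.cls_inM hx

lemma orb_norm {x : Fin 5 → F} (hx : Orb M e x) : x ⬝ᵥ x = 1 := by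
  obtain ⟨Z, hZ, h⟩ := hx
  have h1 : fv e x * fv e x = 1 := by rw [← h, Q.conj_mul hZ, Q.sq, mul_one, Q.mul_adj hZ]
  rw [Q.fv_sq] at h1
  simpa using congrFun (congrFun h1 (Sum.inl 0)) (Sum.inl 0)

/-- Conjugation by a member of the five-space is minus a reflection. -/
lemma fv_conj (x y : Fin 5 → F) :
    fv e x * fv e y * fv e x = fv e ((2 * (x ⬝ᵥ y)) • x - (x ⬝ᵥ x) • y) := by
  have h := eq_sub_of_add_eq (Q.anticomm x y)
  rw [h, sub_mul, smul_one_mul, mul_assoc, Q.fv_sq, fv_sub, fv_smul, fv_smul, mul_smul_comm, mul_one]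

lemma orb_reflect {x y : Fin 5 → F} (hx : Orb M e x) (hy : Orb M e y) :
    Orb M e ((2 * (x ⬝ᵥ y)) • x - y) := by
  have h := Q.cls_conj hy (Q.orb_inM hx)
  rwa [Q.adjS_fv, Q.fv_conj, Q.orb_norm hx, one_smul] at h

lemma orb_single_zero : Orb M e (Pi.single 0 1) := by
  show Cls M e _
  rw [fv_single, one_smul]
  exact Q.cls_self

lemma conj_fv_mem {Y : MS} (hY : InM M Y) : Quad M (fun i => Y * e i * adjS Y) where
  two := Q.two
  sub := Q.sub
  sq i := by rw [Q.conj_mul hY, Q.sq, mul_one, Q.mul_adj hY]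
  anti i j h := by rw [Q.conj_mul hY, Q.conj_mul hY, Q.anti i j h, mul_neg, neg_mul]
  adj i := by rw [adjS_mul, adjS_mul, adjS_adjS, Q.adj, mul_assoc]
  mem i := (hY.mul (Q.mem i)).mul (Q.inM_adj hY)
  span X hX ht := by
    obtain ⟨x, hx⟩ := Q.span (adjS Y * X * Y) (by rw [adjS_mul, adjS_mul, adjS_adjS, hX, mul_assoc]) (by
      rw [Matrix.trace_mul_comm, ← mul_assoc, Q.mul_adj hY, one_mul, ht])
    refine ⟨x, ?_⟩
    rw [← conj_fv, ← hx]
    calc X = Y * adjS Y * X * (Y * adjS Y) := by rw [Q.mul_adj hY, one_mul, mul_one]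
      _ = _ := by simp only [mul_assoc]
  scal X hX := by
    have h1 : ∀ i, adjS Y * X * Y * e i = e i * (adjS Y * X * Y) := fun i => by
      have key : Y * e i = Y * e i * adjS Y * Y := by rw [mul_assoc (Y * e i), Q.adj_mul hY, mul_one]
      calc adjS Y * X * Y * e i = adjS Y * (X * (Y * e i * adjS Y)) * Y := by
            conv_lhs => rw [mul_assoc (adjS Y * X), key]
            simp only [mul_assoc]
        _ = _ := by
            rw [hX i]
            simp only [← mul_assoc, Q.adj_mul hY, one_mul]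
    obtain ⟨c, hc⟩ := Q.scal _ h1
    refine ⟨c, ?_⟩
    calc X = Y * adjS Y * X * (Y * adjS Y) := by rw [Q.mul_adj hY, one_mul, mul_one]
      _ = Y * (adjS Y * X * Y) * adjS Y := by simp only [mul_assoc]
      _ = _ := by rw [hc, mul_smul_comm, mul_one, smul_mul_assoc, Q.mul_adj hY]

/-- The product of the five is a sign. -/
lemma exists_orient : ∃ ε : F, ε * ε = 1 ∧ e 1 * e 2 * e 3 * e 4 = ε • e 0 := by
  have a : ∀ i j : Fin 5, i ≠ j → ∀ X : MS, e i * (e j * X) = -(e j * (e i * X)) := fun i j h X => by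
    rw [← mul_assoc, Q.anti i j h, neg_mul, mul_assoc]
  have s : ∀ i (X : MS), e i * (e i * X) = X := fun i X => by rw [← mul_assoc, Q.sq, one_mul]
  obtain ⟨c, hc⟩ := Q.scal (e 0 * (e 1 * (e 2 * (e 3 * e 4)))) (fun i => by
    fin_cases i <;>
      simp only [mul_assoc, Fin.mk_zero, Fin.mk_one, Fin.reduceFinMk, Q.sq, s, mul_one, mul_neg, neg_neg,
        a 1 0 (by decide), a 2 0 (by decide), a 3 0 (by decide), a 4 0 (by decide), a 2 1 (by decide),
        a 3 1 (by decide), a 4 1 (by decide), a 3 2 (by decide), a 4 2 (by decide), a 4 3 (by decide),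
        Q.anti 1 0 (by decide), Q.anti 2 0 (by decide), Q.anti 3 0 (by decide), Q.anti 4 0 (by decide),
        Q.anti 2 1 (by decide), Q.anti 3 1 (by decide), Q.anti 4 1 (by decide), Q.anti 3 2 (by decide),
        Q.anti 4 2 (by decide), Q.anti 4 3 (by decide)])
  have hε : e 1 * e 2 * e 3 * e 4 = c • e 0 := by
    calc e 1 * e 2 * e 3 * e 4 = e 0 * (e 0 * (e 1 * (e 2 * (e 3 * e 4)))) := by rw [s]; simp only [mul_assoc]
      _ = _ := by rw [hc, mul_smul_comm, mul_one]
  refine ⟨c, ?_, hε⟩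
  have h2 : e 1 * e 2 * e 3 * e 4 * (e 4 * e 3 * e 2 * e 1) = 1 := by simp only [mul_assoc, s, Q.sq]
  have h3 : adjS (e 1 * e 2 * e 3 * e 4) = e 4 * e 3 * e 2 * e 1 := by
    simp only [adjS_mul, Q.adj, mul_assoc]
  rw [← h3, hε, adjS_smul, Q.adj, smul_mul_smul_comm, Q.sq] at h2
  simpa using congrFun (congrFun h2 (Sum.inl 0)) (Sum.inl 0)

end Quad

end H48.ExtraFour
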