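import Mathlib
import Cfsg.Agent.H48.ExtraFour.Frame

/-!
# A central element for two involutions of different kinds
-/

set_option autoImplicit false
set_option linter.unusedSectionVars false

open Matrix
open H49 (adjS adjS_mul adjS_one adjS_add adjS_smul adjS_zero adjS_sub adjS_neg adjS_adjS adjS_pow)

namespace H48.ExtraFour

variable {F : Type*} [Field F]

local notation "MS" => Matrix (Fin 2 ⊕ Fin 2) (Fin 2 ⊕ Fin 2) F

variable {M : Subgroup (GL (Fin 2 ⊕ Fin 2) F)} {e : Fin 5 → Matrix (Fin 2 ⊕ Fin 2) (Fin 2 ⊕ Fin 2) F}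

/-- An involution and an element squaring to `-1` in `M` both commute up to sign with a nonscalar power of
their product. -/
theorem Quad.exists_central [Fintype F] (Q : Quad M e) {a T : MS} (ha : InM M a) (hT : InM M T) (haa : a * a = 1)
    (hTT : T * T = -1) :
    ∃ z : MS, (∃ k : ℕ, z = (a * T) ^ k) ∧ InM M z ∧ (z * z = 1 ∨ z * z = -1) ∧ (∀ c : F, z ≠ c • 1) ∧
      (a * z = z * a ∨ a * z = -(z * a)) ∧ (T * z = z * T ∨ T * z = -(z * T)) := by
  classical
  have hs : InM M (a * T) := ha.mul hT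
  set s := a * T with hsdef
  have hadja : adjS a = a := by
    calc adjS a = adjS a * (a * a) := by rw [haa, mul_one]
      _ = a := by rw [← mul_assoc, Q.adj_mul ha, one_mul]
  have hadjT : adjS T = -T := by
    calc adjS T = -(adjS T * (T * T)) := by rw [hTT, mul_neg, mul_one, neg_neg]
      _ = -T := by rw [← mul_assoc, Q.adj_mul hT, one_mul]
  have hpm : ∀ X : MS, (X = 1 ∨ X = -1) → X * X = 1 := by rintro X (rfl | rfl) <;> simp
  have hex : ∃ m, 0 < m ∧ (s ^ m = 1 ∨ s ^ m = -1) := by
    obtain ⟨g, _, hg⟩ := hs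
    refine ⟨orderOf g, orderOf_pos g, Or.inl ?_⟩
    rw [← hg, ← Units.val_pow_eq_pow_val, pow_orderOf_eq_one, Units.val_one]
  obtain ⟨m, ⟨hm0, hm1⟩, hmin⟩ : ∃ m, (0 < m ∧ (s ^ m = 1 ∨ s ^ m = -1)) ∧
      ∀ k < m, ¬(0 < k ∧ (s ^ k = 1 ∨ s ^ k = -1)) :=
    ⟨Nat.find hex, Nat.find_spec hex, fun k hk => Nat.find_min hex hk⟩
  have hasa : a * s * a = -adjS s := by
    rw [hsdef, adjS_mul, hadja, hadjT, neg_mul, neg_neg, ← mul_assoc, haa, one_mul]
  have hpow : ∀ k : ℕ, a * s ^ k * a = (-1 : F) ^ k • adjS (s ^ k) := by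
    intro k
    induction k with
    | zero => simp [haa, adjS_one]
    | succ k ih =>
      calc a * s ^ (k + 1) * a = a * s ^ k * a * (a * s * a) := by
            rw [pow_succ]
            simp only [← mul_assoc]
            rw [mul_assoc (a * s ^ k) a a, haa, mul_one]
        _ = _ := by
            rw [ih, hasa, smul_mul_assoc, mul_neg, pow_succ' s, adjS_mul s (s ^ k), pow_succ, mul_neg_one, neg_smul, smul_neg]
  rcases Nat.even_or_odd m with ⟨k, hk⟩ | ⟨l, hl⟩
  · have hk0 : 0 < k := by omega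
    have hzM : InM M (s ^ k) := hs.pow k
    have hz2 : s ^ k * s ^ k = 1 ∨ s ^ k * s ^ k = -1 := by rw [← pow_add, ← hk]; exact hm1
    have hzadj : adjS (s ^ k) = s ^ k ∨ adjS (s ^ k) = -(s ^ k) := by
      rcases hz2 with h | h
      · left
        calc adjS (s ^ k) = adjS (s ^ k) * (s ^ k * s ^ k) := by rw [h, mul_one]
          _ = _ := by rw [← mul_assoc, Q.adj_mul hzM, one_mul]
      · right
        calc adjS (s ^ k) = -(adjS (s ^ k) * (s ^ k * s ^ k)) := by rw [h, mul_neg, mul_one, neg_neg]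
          _ = _ := by rw [← mul_assoc, Q.adj_mul hzM, one_mul]
    have haz : a * s ^ k = s ^ k * a ∨ a * s ^ k = -(s ^ k * a) := by
      have h1 := congrArg (· * a) (hpow k)
      simp only [mul_assoc, haa, mul_one] at h1
      rw [h1]
      rcases neg_one_pow_eq_or F k with h | h <;> rcases hzadj with h' | h' <;> rw [h, h'] <;> simp
    refine ⟨s ^ k, ⟨k, rfl⟩, hzM, hz2, fun c hc => ?_, haz, ?_⟩
    · have h1 := Q.adj_mul hzM
      rw [hc, adjS_smul, adjS_one, smul_mul_smul_comm, mul_one] at h1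
      have h2 : c * c = 1 := by simpa using congrFun (congrFun h1 (Sum.inl 0)) (Sum.inl 0)
      refine hmin k (by omega) ⟨hk0, ?_⟩
      rcases mul_self_eq_one_iff.1 h2 with h | h <;> rw [hc, h]
      · exact Or.inl (one_smul _ _)
      · exact Or.inr (neg_one_smul _ _)
    · have hTas : T = a * s := by rw [hsdef, ← mul_assoc, haa, one_mul]
      have hcomm : s * s ^ k = s ^ k * s := (Commute.self_pow s k).eq
      rw [hTas]
      rcases haz with h | h
      · left
        rw [mul_assoc, hcomm, ← mul_assoc, h, mul_assoc]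
      · right
        rw [mul_assoc, hcomm, ← mul_assoc, h, neg_mul, mul_assoc]
  · exfalso
    set g := s ^ l
    have hgM : InM M g := hs.pow l
    have h1 : g * a * adjS g = (-1 : F) ^ l • (g * g * a) := by
      have h2 : adjS g = (-1 : F) ^ l • (a * g * a) := by
        rw [hpow l, smul_smul, ← mul_pow, neg_one_mul, neg_neg, one_pow, one_smul]
      rw [h2, mul_smul_comm]
      congr 1
      calc g * a * (a * g * a) = g * (a * a) * g * a := by simp only [mul_assoc]
        _ = _ := by rw [haa, mul_one]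
    have hgg : g * g = s ^ (2 * l) := by rw [← pow_add, two_mul]
    have h2l : g * g = adjS s ∨ g * g = -adjS s := by
      rw [hgg]
      have hm' : s ^ (2 * l) = s ^ m * adjS s := by
        rw [hl, pow_succ, mul_assoc, Q.mul_adj hs, mul_one]
      rw [hm']
      rcases hm1 with h | h <;> rw [h] <;> simp
    have hsa : adjS s * a = -T := by rw [hsdef, adjS_mul, hadja, hadjT, neg_mul, neg_mul, mul_assoc, haa, mul_one]
    have hsq : g * a * adjS g * (g * a * adjS g) = 1 := by rw [Q.conj_mul hgM, haa, mul_one, Q.mul_adj hgM]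
    have hneg : g * a * adjS g * (g * a * adjS g) = -1 := by
      rw [h1, smul_mul_smul_comm, ← mul_pow, neg_one_mul, neg_neg, one_pow, one_smul]
      rcases h2l with h | h <;> simp [h, hsa, hTT]
    exact Q.one_ne_neg (hsq.symm.trans hneg)

end H48.ExtraFour
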