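import Mathlib
import Cfsg.Agent.H48.ExtraFour.Frame
import Cfsg.Agent.H45.SympDecomp
import Cfsg.Agent.H39.Tor

/-!
# The action of the centraliser of a frame vector on its eigenplane
-/

set_option autoImplicit false
set_option linter.unusedSectionVars false

open Matrix
open scoped MatrixGroups
open H49 (adjS adjS_mul adjS_one adjS_add adjS_smul adjS_zero adjS_sub adjS_neg adjS_adjS)
open H48 (sf)

namespace H48.ExtraFour

variable {F : Type*} [Field F]

local notation "SI" => (Fin 2 ⊕ Fin 2)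
local notation "MS" => Matrix (Fin 2 ⊕ Fin 2) (Fin 2 ⊕ Fin 2) F

/-- The projection on the plane fixed by the first frame vector. -/
def hp (e : Fin 5 → MS) : MS := (2 : F)⁻¹ • (1 + e 0)

/-- The complementary projection. -/
def hm (e : Fin 5 → MS) : MS := (2 : F)⁻¹ • (1 - e 0)

/-- The trace on that plane. -/
def ptr (e : Fin 5 → MS) (X : MS) : F := (X * hp e).trace

/-- A member of `M` commuting with the first frame vector. -/
def InC (M : Subgroup (GL SI F)) (e : Fin 5 → MS) (X : MS) : Prop := InM M X ∧ X * e 0 = e 0 * X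

/-- Coordinates on that plane. -/
structure Pl (e : Fin 5 → MS) (B : Matrix SI (Fin 2) F) (L : Matrix (Fin 2) SI F) : Prop where
  left : L * B = 1
  right : B * L = hp e
  det : ∀ X : MS, adjS X * X = 1 → X * e 0 = e 0 * X → (L * X * B).det = 1

variable {M : Subgroup (GL (Fin 2 ⊕ Fin 2) F)} {e : Fin 5 → Matrix (Fin 2 ⊕ Fin 2) (Fin 2 ⊕ Fin 2) F}

namespace Quad

variable (Q : Quad M e)
include Q

lemma hp_mul_hp : hp e * hp e = hp e := by
  have h := Q.two
  simp only [hp, smul_mul_smul_comm, mul_add, add_mul, one_mul, mul_one, Q.sq]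
  match_scalars <;> field_simp <;> ring

lemma hp_mul_hm : hp e * hm e = 0 := by
  simp only [hp, hm, smul_mul_smul_comm, mul_sub, add_mul, one_mul, mul_one, Q.sq]
  match_scalars <;> ring

lemma hm_mul_hp : hm e * hp e = 0 := by
  simp only [hp, hm, smul_mul_smul_comm, mul_add, sub_mul, one_mul, mul_one, Q.sq]
  match_scalars <;> ring

lemma hp_add_hm : hp e + hm e = 1 := by
  have h := Q.two
  simp only [hp, hm]
  match_scalars <;> field_simp <;> ring

lemma e_mul_hp : e 0 * hp e = hp e := by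
  simp only [hp, mul_smul_comm, mul_add, mul_one, Q.sq]
  rw [add_comm]

lemma adjS_hp : adjS (hp e) = hp e := by
  rw [hp, adjS_smul, adjS_add, adjS_one, Q.adj]

lemma hp_comm {X : MS} (h : X * e 0 = e 0 * X) : X * hp e = hp e * X := by
  simp only [hp, mul_smul_comm, smul_mul_assoc, mul_add, add_mul, mul_one, one_mul, h]

lemma hm_comm {X : MS} (h : X * e 0 = e 0 * X) : X * hm e = hm e * X := by
  simp only [hm, mul_smul_comm, smul_mul_assoc, mul_sub, sub_mul, mul_one, one_mul, h]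

lemma hp_anti {X : MS} (h : X * e 0 = -(e 0 * X)) : X * hp e = hm e * X := by
  simp only [hp, hm, mul_smul_comm, smul_mul_assoc, mul_add, sub_mul, mul_one, one_mul, h, sub_eq_add_neg]
  rw [add_mul, one_mul, neg_mul]

lemma hm_anti {X : MS} (h : X * e 0 = -(e 0 * X)) : X * hm e = hp e * X := by
  simp only [hp, hm, mul_smul_comm, smul_mul_assoc, mul_sub, add_mul, mul_one, one_mul, h, sub_neg_eq_add]

lemma adjS_hm : adjS (hm e) = hm e := by
  rw [hm, adjS_smul, adjS_sub, adjS_one, Q.adj]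

lemma inC_one : InC M e (1 : MS) := ⟨inM_one, by rw [one_mul, mul_one]⟩

lemma inC_mul {X Y : MS} (hX : InC M e X) (hY : InC M e Y) : InC M e (X * Y) :=
  ⟨hX.1.mul hY.1, by rw [mul_assoc, hY.2, ← mul_assoc, hX.2, mul_assoc]⟩

lemma inC_adj {X : MS} (hX : InC M e X) : InC M e (adjS X) :=
  ⟨Q.inM_adj hX.1, by
    have h := congrArg adjS hX.2
    rw [adjS_mul, adjS_mul, Q.adj] at h
    exact h.symm⟩

lemma inC_pair {i j : Fin 5} (hi : i ≠ 0) (hj : j ≠ 0) : InC M e (e i * e j) :=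
  ⟨(Q.mem i).mul (Q.mem j), by
    rw [mul_assoc, Q.anti j 0 hj, mul_neg, ← mul_assoc, Q.anti i 0 hi, neg_mul, neg_neg, mul_assoc]⟩

lemma fv_anti_zero {x : Fin 5 → F} (hx : x 0 = 0) : fv e x * e 0 = -(e 0 * fv e x) := by
  have h : x ⬝ᵥ Pi.single 0 1 = 0 := by simp [hx]
  have := Q.fv_anti h
  rwa [fv_single, one_smul] at this

lemma inC_fv_pair {x y : Fin 5 → F} (hx : x 0 = 0) (hy : y 0 = 0) (hX : InM M (fv e x)) (hY : InM M (fv e y)) :
    InC M e (fv e x * fv e y) :=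
  ⟨hX.mul hY, by
    rw [mul_assoc, Q.fv_anti_zero hy, mul_neg, ← mul_assoc, Q.fv_anti_zero hx, neg_mul, neg_neg, mul_assoc]⟩

lemma ptr_one : ptr e 1 = 2 := by
  have h := Q.two
  rw [ptr, one_mul, hp, Matrix.trace_smul, Matrix.trace_add, Q.trace_one, Q.trace_e, smul_eq_mul]
  field_simp
  ring

lemma ptr_adj {X : MS} (hX : X * e 0 = e 0 * X) : ptr e (adjS X) = ptr e X := by
  rw [ptr, ptr, ← H47.adjS_trace (X * hp e), adjS_mul, Q.adjS_hp, Matrix.trace_mul_comm]

lemma ptr_add (X Y : MS) : ptr e (X + Y) = ptr e X + ptr e Y := by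
  simp [ptr, add_mul]

lemma ptr_smul (c : F) (X : MS) : ptr e (c • X) = c * ptr e X := by
  simp [ptr, smul_mul_assoc]

lemma ptr_neg (X : MS) : ptr e (-X) = -ptr e X := by
  simp [ptr]

/-- The trace of a product of two vectors orthogonal to the first one. -/
lemma ptr_fv {x y : Fin 5 → F} (hx : x 0 = 0) (hy : y 0 = 0) :
    ptr e (fv e x * fv e y) = 2 * (x ⬝ᵥ y) := by
  have hc : fv e x * fv e y * e 0 = e 0 * (fv e x * fv e y) := by
    rw [mul_assoc, Q.fv_anti_zero hy, mul_neg, ← mul_assoc, Q.fv_anti_zero hx, neg_mul, neg_neg, mul_assoc]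
  have h1 := Q.ptr_adj hc
  rw [adjS_mul, Q.adjS_fv, Q.adjS_fv] at h1
  have h2 := congrArg (ptr e) (Q.anticomm x y)
  rw [Q.ptr_add, h1, Q.ptr_smul, Q.ptr_one] at h2
  refine mul_left_cancel₀ Q.two ?_
  linear_combination h2

lemma ptr_pair {i j : Fin 5} (hi : i ≠ 0) (hj : j ≠ 0) (h : i ≠ j) : ptr e (e i * e j) = 0 := by
  have := Q.ptr_fv (x := Pi.single i 1) (y := Pi.single j 1) (by simp [Pi.single_eq_of_ne (Ne.symm hi)])
    (by simp [Pi.single_eq_of_ne (Ne.symm hj)])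
  rw [fv_single, fv_single, one_smul, one_smul] at this
  rw [this]
  simp [Pi.single_eq_of_ne (Ne.symm h)]

lemma ptr_fv_e {x : Fin 5 → F} (hx : x 0 = 0) {i : Fin 5} (hi : i ≠ 0) : ptr e (fv e x * e i) = 2 * x i := by
  have := Q.ptr_fv hx (y := Pi.single i 1) (by simp [Pi.single_eq_of_ne (Ne.symm hi)])
  rw [fv_single, one_smul] at this
  rw [this]
  simp

/-- Such a product acts as a scalar only for proportional vectors. -/
lemma coord_of_scalar {x : Fin 5 → F} (hx : x 0 = 0) {k : Fin 5} (hk : k ≠ 0) {c : F}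
    (h : fv e x * e k * hp e = c • hp e) {l : Fin 5} (hl : l ≠ 0) (hlk : l ≠ k) : x l = 0 := by
  have hkl : e k * e l * hp e = hp e * (e k * e l) := Q.hp_comm (Q.inC_pair hk hl).2
  have h1 : ptr e (fv e x * e l) = c * ptr e (e k * e l) := by
    rw [ptr, ptr, show fv e x * e l * hp e = fv e x * e k * hp e * (e k * e l) by
      rw [mul_assoc _ (hp e), ← hkl, ← mul_assoc, ← mul_assoc, mul_assoc (fv e x) (e k) (e k), Q.sq, mul_one],
      h, smul_mul_assoc, Matrix.trace_smul, ← hkl, smul_eq_mul]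
  rw [Q.ptr_fv_e hx hl, Q.ptr_pair hk hl hlk.symm, mul_zero] at h1
  exact (mul_eq_zero.mp h1).resolve_left Q.two

/-! ### Coordinates -/

lemma sf_adj (X : MS) (u v : SI → F) : sf (X *ᵥ u) v = sf u (adjS X *ᵥ v) := H49.sf_mulVec X u v

lemma sf_hp (u v : SI → F) : sf (hp e *ᵥ u) v = sf u (hp e *ᵥ v) := by rw [Q.sf_adj, Q.adjS_hp]

lemma hp_fix (u : SI → F) : hp e *ᵥ (hp e *ᵥ u) = hp e *ᵥ u := by rw [mulVec_mulVec, Q.hp_mul_hp]

lemma exists_pl : ∃ B L, Pl e B L := by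
  classical
  set V : Submodule F (SI → F) := LinearMap.range (hp e).mulVecLin with hV
  set W : Submodule F (SI → F) := LinearMap.range (hm e).mulVecLin with hW
  have hfix : ∀ u ∈ V, hp e *ᵥ u = u := by
    rintro _ ⟨u, rfl⟩
    exact Q.hp_fix u
  have h01 : e 1 * e 0 = -(e 0 * e 1) := Q.anti 1 0 (by decide)
  have hdimVW : Module.finrank F V = Module.finrank F W := by
    refine LinearEquiv.finrank_eq (LinearEquiv.ofLinear
      ((e 1).mulVecLin.restrict (p := V) (q := W) ?_) ((e 1).mulVecLin.restrict (p := W) (q := V) ?_) ?_ ?_)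
    · rintro _ ⟨u, rfl⟩
      exact ⟨e 1 *ᵥ u, by simp [mulVec_mulVec, Q.hp_anti h01]⟩
    · rintro _ ⟨u, rfl⟩
      exact ⟨e 1 *ᵥ u, by simp [mulVec_mulVec, Q.hm_anti h01]⟩
    · ext x : 2
      simp [mulVec_mulVec, Q.sq]
    · ext x : 2
      simp [mulVec_mulVec, Q.sq]
  have hsum : Module.finrank F V + Module.finrank F W = 4 := by
    have hc : IsCompl V W := by
      constructor
      · rw [Submodule.disjoint_def]
        rintro x hx ⟨w, rfl⟩
        have := hfix _ hx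
        simpa [mulVec_mulVec, Q.hp_mul_hm] using this.symm
      · rw [codisjoint_iff, eq_top_iff]
        intro x _
        exact Submodule.mem_sup.mpr ⟨_, ⟨x, rfl⟩, _, ⟨x, rfl⟩, by simp [← add_mulVec, Q.hp_add_hm]⟩
    rw [Submodule.finrank_add_eq_of_isCompl hc, Module.finrank_fintype_fun_eq_card]
    rfl
  have hdim : Module.finrank F V = 2 := by omega
  obtain ⟨v1, hv1, hv10⟩ : ∃ v ∈ V, v ≠ 0 := by
    refine (Submodule.ne_bot_iff V).mp fun h => ?_
    rw [h, finrank_bot] at hdim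
    omega
  obtain ⟨w, hw⟩ := H48.exists_sf_ne hv10
  set v2 : SI → F := (sf v1 w)⁻¹ • (hp e *ᵥ w) with hv2
  have hv2V : v2 ∈ V := V.smul_mem _ ⟨w, rfl⟩
  have h12 : sf v1 v2 = 1 := by
    rw [hv2, map_smul, ← Q.sf_hp, hfix _ hv1, smul_eq_mul, inv_mul_cancel₀ hw]
  have h21 : sf v2 v1 = -1 := by rw [H48.sf_swap, h12]
  let Bl : (Fin 2 → F) →ₗ[F] (SI → F) :=
    { toFun := fun c => c 0 • v1 + c 1 • v2
      map_add' := fun a b => by simp [add_smul]; abel
      map_smul' := fun a b => by simp [smul_smul, smul_add] }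
  let Ll : (SI → F) →ₗ[F] (Fin 2 → F) :=
    { toFun := fun x => ![sf x v2, sf v1 x]
      map_add' := fun a b => by ext i; fin_cases i <;> simp
      map_smul' := fun a b => by ext i; fin_cases i <;> simp }
  have hBV : ∀ c, Bl c ∈ V := fun c => V.add_mem (V.smul_mem _ hv1) (V.smul_mem _ hv2V)
  have hLB : ∀ c, Ll (Bl c) = c := fun c => by
    ext i
    fin_cases i <;> simp [Ll, Bl, h12, h21]
  have hspan : ∀ u ∈ V, Bl (Ll u) = u := by
    have hinj : Function.Injective Bl := fun a b h => by rw [← hLB a, h, hLB b]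
    have hrange : LinearMap.range Bl = V := by
      refine Submodule.eq_of_le_of_finrank_eq (by rintro _ ⟨c, rfl⟩; exact hBV c) ?_
      rw [LinearMap.finrank_range_of_inj hinj, hdim, Module.finrank_fintype_fun_eq_card, Fintype.card_fin]
    intro u hu
    obtain ⟨c, rfl⟩ : u ∈ LinearMap.range Bl := hrange ▸ hu
    rw [hLB]
  have hLh : ∀ x, Ll (hp e *ᵥ x) = Ll x := fun x => by
    ext i
    fin_cases i
    · simpa [Ll, hfix _ hv2V] using Q.sf_hp x v2
    · simpa [Ll, hfix _ hv1] using (Q.sf_hp v1 x).symm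
  have hBm : ∀ c, LinearMap.toMatrix' Bl *ᵥ c = Bl c := fun c => LinearMap.toMatrix'_mulVec _ _
  have hLm : ∀ x, LinearMap.toMatrix' Ll *ᵥ x = Ll x := fun x => LinearMap.toMatrix'_mulVec _ _
  refine ⟨LinearMap.toMatrix' Bl, LinearMap.toMatrix' Ll, ?_, ?_, ?_⟩
  · refine Matrix.ext_iff_mulVec.mpr fun c => ?_
    rw [← mulVec_mulVec, hBm, hLm, hLB, one_mulVec]
  · refine Matrix.ext_iff_mulVec.mpr fun x => ?_
    rw [← mulVec_mulVec, hLm, hBm, ← hLh]
    exact hspan _ ⟨x, rfl⟩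
  · intro X hX hc
    set A := LinearMap.toMatrix' Ll * X * LinearMap.toMatrix' Bl with hA
    have hmv : ∀ c, A *ᵥ c = Ll (X *ᵥ Bl c) := fun c => by
      rw [hA, ← mulVec_mulVec, ← mulVec_mulVec, hBm, hLm]
    have hXV : ∀ u ∈ V, X *ᵥ u ∈ V := by
      rintro _ ⟨u, rfl⟩
      exact ⟨X *ᵥ u, by simp [mulVec_mulVec, Q.hp_comm hc]⟩
    have hcols : ∀ c, Bl (A *ᵥ c) = X *ᵥ Bl c := fun c => by
      rw [hmv, hspan _ (hXV _ (hBV c))]
    have h := H48.sf_def (X *ᵥ v1) (X *ᵥ v2)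
    have hiso : sf (X *ᵥ v1) (X *ᵥ v2) = 1 := by
      rw [Q.sf_adj, mulVec_mulVec, hX, one_mulVec, h12]
    have e1 : Bl ![1, 0] = v1 := by simp [Bl]
    have e2 : Bl ![0, 1] = v2 := by simp [Bl]
    have c1 := hcols ![1, 0]
    have c2 := hcols ![0, 1]
    rw [e1] at c1
    rw [e2] at c2
    rw [← c1, ← c2] at hiso
    simp only [Bl, LinearMap.coe_mk, AddHom.coe_mk, map_add, map_smul, LinearMap.add_apply, LinearMap.smul_apply,
      h12, h21, H48.sf_self, smul_eq_mul, Matrix.mulVec, dotProduct, Fin.sum_univ_two] at hiso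
    rw [Matrix.det_fin_two]
    simp at hiso
    linear_combination hiso

end Quad

namespace Pl

variable {B : Matrix (Fin 2 ⊕ Fin 2) (Fin 2) F} {L : Matrix (Fin 2) (Fin 2 ⊕ Fin 2) F}
  (P : Pl e B L)
include P

lemma hp_B : hp e * B = B := by rw [← P.right, Matrix.mul_assoc, P.left, Matrix.mul_one]

lemma L_hp : L * hp e = L := by rw [← P.right, ← Matrix.mul_assoc, P.left, Matrix.one_mul]

variable (Q : Quad M e)
include Q

lemma pmap_mul (X : MS) {Y : MS} (hY : Y * e 0 = e 0 * Y) : L * (X * Y) * B = (L * X * B) * (L * Y * B) := by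
  calc L * (X * Y) * B = L * X * (Y * (hp e * B)) := by rw [P.hp_B]; simp only [Matrix.mul_assoc]
    _ = L * X * (Y * hp e) * B := by simp only [Matrix.mul_assoc]
    _ = L * X * (hp e * Y) * B := by rw [Q.hp_comm hY]
    _ = _ := by rw [← P.right]; simp only [Matrix.mul_assoc]

lemma map_hp (X : MS) : L * (X * hp e) * B = L * X * B := by
  rw [Matrix.mul_assoc, Matrix.mul_assoc X, P.hp_B, ← Matrix.mul_assoc]

lemma trace_map (X : MS) : (L * X * B).trace = ptr e X := by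
  rw [Matrix.mul_assoc, Matrix.trace_mul_comm, Matrix.mul_assoc, P.right, ptr]

lemma map_smul_hp {X : MS} {c : F} (h : X * hp e = c • hp e) : L * X * B = c • (1 : Matrix (Fin 2) (Fin 2) F) := by
  rw [← P.map_hp Q X, h, Matrix.mul_smul, Matrix.smul_mul, P.L_hp, P.left]

lemma eq_of_map {X : MS} (hX : X * e 0 = e 0 * X) : B * (L * X * B) * L = X * hp e := by
  calc B * (L * X * B) * L = hp e * X * hp e := by rw [← P.right]; simp only [Matrix.mul_assoc]
    _ = _ := by rw [← Q.hp_comm hX, Matrix.mul_assoc, Q.hp_mul_hp]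

lemma pmap_one : L * (1 : MS) * B = 1 := by rw [Matrix.mul_one, P.left]

/-- The image of the centraliser on the plane. -/
def img : Subgroup SL(2, F) where
  carrier := {A | ∃ X, InC M e X ∧ L * X * B = (A : Matrix (Fin 2) (Fin 2) F)}
  one_mem' := ⟨1, Q.inC_one, P.pmap_one Q⟩
  mul_mem' := by
    rintro A A' ⟨X, hX, h⟩ ⟨Y, hY, h'⟩
    exact ⟨X * Y, Q.inC_mul hX hY, by rw [P.pmap_mul Q X hY.2, h, h']; rfl⟩
  inv_mem' := by
    rintro A ⟨X, hX, h⟩
    refine ⟨adjS X, Q.inC_adj hX, ?_⟩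
    have h1 : L * adjS X * B * (L * X * B) = 1 := by
      rw [← P.pmap_mul Q _ hX.2, Q.adj_mul hX.1, P.pmap_one Q]
    rw [h] at h1
    have h2 : ((A⁻¹ : SL(2, F)) : Matrix (Fin 2) (Fin 2) F) = ((A : Matrix (Fin 2) (Fin 2) F))⁻¹ :=
      (Matrix.inv_eq_left_inv (by
        rw [← Matrix.SpecialLinearGroup.coe_mul, inv_mul_cancel, Matrix.SpecialLinearGroup.coe_one])).symm
    rw [h2, Matrix.inv_eq_left_inv h1]

lemma mem_img {A : SL(2, F)} :
    A ∈ P.img Q ↔ ∃ X, InC M e X ∧ L * X * B = (A : Matrix (Fin 2) (Fin 2) F) := Iff.rfl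

/-- The elements of the image that come from elements trivial on the other plane. -/
def ker : Subgroup SL(2, F) where
  carrier := {A | ∃ X, InC M e X ∧ X * hm e = hm e ∧ L * X * B = (A : Matrix (Fin 2) (Fin 2) F)}
  one_mem' := ⟨1, Q.inC_one, by rw [one_mul], P.pmap_one Q⟩
  mul_mem' := by
    rintro A A' ⟨X, hX, hXm, h⟩ ⟨Y, hY, hYm, h'⟩
    exact ⟨X * Y, Q.inC_mul hX hY, by rw [mul_assoc, hYm, hXm], by rw [P.pmap_mul Q X hY.2, h, h']; rfl⟩
  inv_mem' := by
    rintro A ⟨X, hX, hXm, h⟩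
    obtain ⟨Y, hY, hYA⟩ := (P.img Q).inv_mem ((P.mem_img Q).mpr ⟨X, hX, h⟩)
    refine ⟨adjS X, Q.inC_adj hX, ?_, ?_⟩
    · calc adjS X * hm e = adjS X * (X * hm e) := by rw [hXm]
        _ = _ := by rw [← mul_assoc, Q.adj_mul hX.1, one_mul]
    · have h1 : L * adjS X * B * (L * X * B) = 1 := by
        rw [← P.pmap_mul Q _ hX.2, Q.adj_mul hX.1, P.pmap_one Q]
      have h2 : L * Y * B * (L * X * B) = 1 := by
        rw [hYA, h, ← Matrix.SpecialLinearGroup.coe_mul, inv_mul_cancel, Matrix.SpecialLinearGroup.coe_one]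
      rw [← hYA]
      exact (Matrix.inv_eq_left_inv h1).symm.trans (Matrix.inv_eq_left_inv h2)

lemma mem_ker {A : SL(2, F)} : A ∈ P.ker Q ↔
    ∃ X, InC M e X ∧ X * hm e = hm e ∧ L * X * B = (A : Matrix (Fin 2) (Fin 2) F) := Iff.rfl

lemma ker_le_img : P.ker Q ≤ P.img Q := fun _ ⟨X, hX, _, h⟩ => (P.mem_img Q).mpr ⟨X, hX, h⟩

lemma ker_normalized {A K : SL(2, F)} (hA : A ∈ P.img Q) (hK : K ∈ P.ker Q) : A * K * A⁻¹ ∈ P.ker Q := by
  obtain ⟨X, hX, hXA⟩ := hA
  obtain ⟨Y, hY, hYm, hYK⟩ := hK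
  refine ⟨X * Y * adjS X, Q.inC_mul (Q.inC_mul hX hY) (Q.inC_adj hX), ?_, ?_⟩
  · rw [mul_assoc, Q.hm_comm (Q.inC_adj hX).2, ← mul_assoc, mul_assoc X, hYm, Q.hm_comm hX.2, mul_assoc,
      Q.mul_adj hX.1, mul_one]
  · have h1 : L * adjS X * B * (L * X * B) = 1 := by
      rw [← P.pmap_mul Q _ hX.2, Q.adj_mul hX.1, P.pmap_one Q]
    rw [hXA] at h1
    rw [P.pmap_mul Q _ (Q.inC_adj hX).2, P.pmap_mul Q X hY.2, hXA, hYK, ← Matrix.inv_eq_left_inv h1,
      Matrix.SpecialLinearGroup.coe_mul, Matrix.SpecialLinearGroup.coe_mul]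
    congr 1
    exact Matrix.inv_eq_left_inv (by
      rw [← Matrix.SpecialLinearGroup.coe_mul, inv_mul_cancel, Matrix.SpecialLinearGroup.coe_one])

/-- The image of an element of the centraliser. -/
def toSL {X : MS} (hX : InC M e X) : SL(2, F) :=
  ⟨L * X * B, P.det X (Q.adj_mul hX.1) hX.2⟩

lemma toSL_mem {X : MS} (hX : InC M e X) : P.toSL Q hX ∈ P.img Q := ⟨X, hX, rfl⟩

lemma toSL_tr {X : MS} (hX : InC M e X) : H39.tr (P.toSL Q hX) = ptr e X := P.trace_map Q X

lemma toSL_mul {X Y : MS} (hX : InC M e X) (hY : InC M e Y) :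
    P.toSL Q (Q.inC_mul hX hY) = P.toSL Q hX * P.toSL Q hY := Subtype.ext (P.pmap_mul Q X hY.2)

end Pl

/-- Everything in the centraliser on the plane gives all of the symplectic group. -/
theorem sp_le_of_ker {B : Matrix SI (Fin 2) F} {L : Matrix (Fin 2) SI F} (Q : Quad M e) (P : Pl e B L)
    (hK : P.ker Q = ⊤) {b : MS} (hb : Cls M e b) (hba : b * e 0 = -(e 0 * b)) : Cfsg.spGL 2 F ≤ M := by
  classical
  set S := H45.tvDirections M with hS
  have hbM := Q.cls_inM hb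
  obtain ⟨bg, hbg, hbv⟩ := hbM
  have hbb : b * b = 1 := by
    obtain ⟨Z, hZ, rfl⟩ := hb
    rw [Q.conj_mul hZ, Q.sq, mul_one, Q.mul_adj hZ]
  have hbadj : adjS b = b := by
    obtain ⟨Z, hZ, rfl⟩ := hb
    rw [adjS_mul, adjS_mul, adjS_adjS, Q.adj, mul_assoc]
  have hplus : ∀ v, hp e *ᵥ v = v → v ∈ S := by
    intro v hv c
    set T := H45.stv v c with hT
    have hTm : ∀ x, (T : MS) *ᵥ x = x + (c * sf x v) • v := fun x => H45.act_tv _ _ v c x
    have hev : e 0 *ᵥ v = v := by rw [← hv, mulVec_mulVec, Q.e_mul_hp]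
    have hTc : (T : MS) * e 0 = e 0 * (T : MS) := by
      refine Matrix.ext_iff_mulVec.mpr fun x => ?_
      rw [← mulVec_mulVec, ← mulVec_mulVec, hTm, hTm, mulVec_add, mulVec_smul, hev, Q.sf_adj, Q.adj, hev]
    have hTh : (T : MS) * hm e = hm e := by
      refine Matrix.ext_iff_mulVec.mpr fun x => ?_
      have h0 : hm e *ᵥ v = 0 := by rw [← hv, mulVec_mulVec, Q.hm_mul_hp, zero_mulVec]
      rw [← mulVec_mulVec, hTm, Q.sf_adj, Q.adjS_hm, h0, map_zero, mul_zero, zero_smul, add_zero]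
    have hTs : adjS (T : MS) * (T : MS) = 1 := H47.mem_spGL_adj.mp (H45.stv_mem v c)
    let A : SL(2, F) := ⟨L * (T : MS) * B, P.det _ hTs hTc⟩
    obtain ⟨X, hX, hXm, hXT⟩ := (P.mem_ker Q).mp (hK.ge (Subgroup.mem_top A))
    have : X = (T : MS) := by
      calc X = X * hp e + X * hm e := by rw [← mul_add, Q.hp_add_hm, mul_one]
        _ = (T : MS) * hp e + (T : MS) * hm e := by
          rw [← P.eq_of_map Q hX.2, ← P.eq_of_map Q hTc, hXT, hXm, hTh]
        _ = _ := by rw [← mul_add, Q.hp_add_hm, mul_one]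
    obtain ⟨g, hg, hgX⟩ := hX.1
    have hgT : g = T := Units.ext (hgX.trans this)
    exact hgT ▸ hg
  have hact : ∀ {X : MS}, InM M X → ∀ v ∈ S, X *ᵥ v ∈ S := by
    rintro _ ⟨g, hg, rfl⟩ v hv
    exact H45.tvDirections_act Q.sub hg hv
  have hminus : ∀ v, hm e *ᵥ v = v → v ∈ S := fun v hv => by
    have h := hact ⟨bg, hbg, hbv⟩ (b *ᵥ v) (hplus _ (by
      rw [mulVec_mulVec, ← Q.hm_anti hba, ← mulVec_mulVec, hv]))
    rwa [mulVec_mulVec, hbb, one_mulVec] at h
  obtain ⟨Z, hZ, hZb⟩ := hb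
  have hfixb : ∀ z, b *ᵥ z = z → z ∈ S := fun z hz => by
    have h := hact hZ (adjS Z *ᵥ z) (hplus _ (by
      have h1 : e 0 *ᵥ (adjS Z *ᵥ z) = adjS Z *ᵥ z := by
        conv_rhs => rw [← hz, ← hZb]
        rw [mulVec_mulVec, mulVec_mulVec, ← mul_assoc, ← mul_assoc, Q.adj_mul hZ, one_mul]
      rw [hp, smul_mulVec, add_mulVec, one_mulVec, h1, ← two_smul F (adjS Z *ᵥ z), smul_smul,
        inv_mul_cancel₀ Q.two, one_smul]))
    rwa [mulVec_mulVec, Q.mul_adj hZ, one_mulVec] at h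
  have hstep : ∀ u ∈ S, ∀ w ∈ S, sf w u ≠ 0 → w + u ∈ S := fun u hu w hw h => by
    have := H45.tvDirections_add_smul Q.sub hu hw h 1
    rwa [one_smul] at this
  have horth : ∀ x w, hp e *ᵥ x = x → hm e *ᵥ w = w → sf x w = 0 := fun x w hx hw => by
    rw [← hx, Q.sf_hp, ← hw, mulVec_mulVec, Q.hp_mul_hm, zero_mulVec, map_zero]
  refine H45.spGL_le_of_stv_mem fun a c _ => ?_
  suffices a ∈ S from this c
  have key : ∀ x w, hp e *ᵥ x = x → hm e *ᵥ w = w → x + w ∈ S := by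
    intro x w hx hw
    by_cases hx0 : x = 0
    · rw [hx0, zero_add]; exact hminus w hw
    set y := b *ᵥ x with hy
    have hym : hm e *ᵥ y = y := by rw [hy, mulVec_mulVec, ← Q.hp_anti hba, ← mulVec_mulVec, hx]
    have hzS : x + y ∈ S := hfixb _ (by rw [mulVec_add, hy, mulVec_mulVec, hbb, one_mulVec, add_comm])
    have hgood : ∀ w', hm e *ᵥ w' = w' → sf y w' ≠ 0 → x + w' ∈ S := fun w' hw' h => by
      have := hstep (w' - y) (hminus _ (by rw [mulVec_sub, hw', hym])) (x + y) hzS (by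
        rw [map_add, LinearMap.add_apply, horth x _ hx (by rw [mulVec_sub, hw', hym]), zero_add, map_sub,
          H48.sf_self, sub_zero]
        exact h)
      rwa [show x + y + (w' - y) = x + w' by abel] at this
    by_cases hw0 : w = 0
    · rw [hw0, add_zero]; exact hplus x hx
    have hnd : ∀ u, hm e *ᵥ u = u → u ≠ 0 → ∃ v, hm e *ᵥ v = v ∧ sf u v ≠ 0 := fun u hu h0 => by
      obtain ⟨v, hv⟩ := H48.exists_sf_ne h0
      refine ⟨hm e *ᵥ v, ?_, ?_⟩
      · have h2 := Q.two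
        rw [mulVec_mulVec]
        congr 1
        simp only [hm, smul_mul_smul_comm, mul_sub, sub_mul, one_mul, mul_one, Q.sq]
        match_scalars <;> field_simp <;> ring
      · rwa [← Q.adjS_hm, ← Q.sf_adj, hu]
    have hy0 : y ≠ 0 := fun h => hx0 (by
      rw [← one_mulVec x, ← hbb, ← mulVec_mulVec, ← hy, h, mulVec_zero])
    obtain ⟨v1, hv1, hs1⟩ := hnd y hym hy0
    obtain ⟨v2, hv2, hs2⟩ := hnd w hw hw0
    obtain ⟨w', hw', hy', hw''⟩ : ∃ w', hm e *ᵥ w' = w' ∧ sf y w' ≠ 0 ∧ sf w w' ≠ 0 := by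
      by_cases h1 : sf w v1 = 0
      · by_cases h2 : sf y v2 = 0
        · exact ⟨v1 + v2, by rw [mulVec_add, hv1, hv2], by simp [h2, hs1], by simp [h1, hs2]⟩
        · exact ⟨v2, hv2, h2, hs2⟩
      · exact ⟨v1, hv1, hs1, h1⟩
    have := hstep (w - w') (hminus _ (by rw [mulVec_sub, hw, hw'])) (x + w') (hgood w' hw' hy') (by
      rw [map_add, LinearMap.add_apply, horth x _ hx (by rw [mulVec_sub, hw, hw']), zero_add, map_sub,
        H48.sf_self, sub_zero, H48.sf_swap]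
      exact neg_ne_zero.mpr hw'')
    rwa [show x + w' + (w - w') = x + w by abel] at this
  have hsplit := key (hp e *ᵥ a) (hm e *ᵥ a) (Q.hp_fix a) (by
    rw [mulVec_mulVec]
    congr 1
    have h2 := Q.two
    simp only [hm, smul_mul_smul_comm, mul_sub, sub_mul, one_mul, mul_one, Q.sq]
    match_scalars <;> field_simp <;> ring)
  rwa [← add_mulVec, Q.hp_add_hm, one_mulVec] at hsplit

end H48.ExtraFour
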