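import Mathlib
import Cfsg.Agent.H39.Dickson
import Cfsg.Agent.H42.PSL2Odd
import Cfsg.Agent.H42.PSL2Subfield
import Cfsg.Agent.H42.PSL2Traces

/-!
# Proper subgroups of `PSL₂(p)` containing a tetrahedral configuration
-/

set_option autoImplicit false
set_option linter.unusedSectionVars false
set_option linter.style.haveILetI false

open Matrix H39
open scoped MatrixGroups

namespace H48.ExtraFour

/-- Two commuting involutions and an element of order three moving the first to the second and the second to their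
product. -/
structure Tet {G : Type*} [Group G] (i j r : G) : Prop where
  ii : i * i = 1
  ne : i ≠ 1
  nij : i ≠ j
  comm : i * j = j * i
  rrr : r ^ 3 = 1
  ri : r * i * r⁻¹ = j
  rj : r * j * r⁻¹ = i * j

namespace Tet

variable {G : Type*} [Group G] {i j r : G} (T : Tet i j r)
include T

lemma jj : j * j = 1 := by
  rw [← T.ri, show r * i * r⁻¹ * (r * i * r⁻¹) = r * (i * i) * r⁻¹ by group, T.ii, mul_one, mul_inv_cancel]

lemma jne : j ≠ 1 := fun h => T.ne (by
  rw [← T.ri] at h
  simpa [mul_assoc] using congrArg (fun x => r⁻¹ * x * r) h)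

lemma map {H : Type*} [Group H] {f : G →* H} (hf : Function.Injective f) : Tet (f i) (f j) (f r) where
  ii := by rw [← map_mul, T.ii, map_one]
  ne h := T.ne (hf (h.trans (map_one f).symm))
  nij h := T.nij (hf h)
  comm := by rw [← map_mul, T.comm, map_mul]
  rrr := by rw [← map_pow, T.rrr, map_one]
  ri := by rw [← map_inv, ← map_mul, ← map_mul, T.ri]
  rj := by rw [← map_inv, ← map_mul, ← map_mul, T.rj, map_mul]

end Tet

set_option maxRecDepth 20000 in
lemma perm4_orders : ∀ x : Equiv.Perm (Fin 4), x ^ 2 = 1 ∨ x ^ 3 = 1 ∨ x ^ 4 = 1 := by decide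

set_option maxRecDepth 20000 in
lemma alt5_orders : ∀ x : alternatingGroup (Fin 5), x ^ 2 = 1 ∨ x ^ 3 = 1 ∨ x ^ 5 = 1 := by decide

set_option maxRecDepth 20000 in
set_option synthInstance.maxSize 4000 in
set_option synthInstance.maxHeartbeats 400000 in
lemma perm4_normal : ∀ i : Equiv.Perm (Fin 4), i * i = 1 → i ≠ 1 → ∀ r : Equiv.Perm (Fin 4), r ^ 3 = 1 →
    i * (r * i * r⁻¹) = r * i * r⁻¹ * i → i ≠ r * i * r⁻¹ → ∀ x : Equiv.Perm (Fin 4),
    x * i * x⁻¹ = i ∨ x * i * x⁻¹ = r * i * r⁻¹ ∨ x * i * x⁻¹ = i * (r * i * r⁻¹) := by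
  decide

set_option maxRecDepth 20000 in
lemma alt5_four : ∀ x : alternatingGroup (Fin 5), x ^ 4 = 1 → x ^ 2 = 1 := by decide

lemma dihedral_not_tet {k : ℕ} {i j r : DihedralGroup k} (T : Tet i j r) : False := by
  -- a rotation fixed by the element of order three would be the first involution
  rcases r with a | a
  · rcases i with b | b
    · exact T.nij (by rw [← T.ri]; simp [add_comm])
    · have hj : j = DihedralGroup.sr (b - a - a) := by
        rw [← T.ri]; simp [sub_eq_add_neg, add_comm, add_left_comm, add_assoc]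
      have h := T.rj
      rw [hj] at h
      simp at h
  · have h := T.rrr
    rw [pow_succ, pow_two, DihedralGroup.sr_mul_self, one_mul] at h
    rw [DihedralGroup.one_def] at h
    cases h

variable {F : Type*} [Field F] [Fintype F] (p : ℕ) [Fact p.Prime] [CharP F p]

local notation "G2" => Matrix.ProjectiveSpecialLinearGroup (Fin 2) F

/-- A proper subgroup with a tetrahedral configuration over a prime field. -/
theorem shape_cases (hq : Fintype.card F = p) (h5 : 5 ≤ p) {H : Subgroup G2} (hH : H ≠ ⊤) {i j r : H}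
    (T : Tet i j r) :
    (Nonempty (H ≃* alternatingGroup (Fin 4)) ∨ Nonempty (H ≃* Equiv.Perm (Fin 4))) ∨
      (Nonempty (H ≃* alternatingGroup (Fin 5)) ∧ Fintype.card F ≠ 5) := by
  have hodd : Odd (Fintype.card F) := hq ▸ (Fact.out : p.Prime).odd_of_ne_two (by omega)
  cases H39.dickson p H with
  | cyclic hc =>
    exfalso
    haveI := hc
    obtain ⟨g, hg⟩ := IsCyclic.exists_generator (α := H)
    have hcomm : r * i = i * r := by
      obtain ⟨a, rfl⟩ := Subgroup.mem_zpowers_iff.1 (hg r)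
      obtain ⟨b, rfl⟩ := Subgroup.mem_zpowers_iff.1 (hg i)
      rw [← _root_.zpow_add, ← _root_.zpow_add, add_comm]
    exact T.nij (by rw [← T.ri, hcomm, mul_inv_cancel_right])
  | dihedral k hc =>
    obtain ⟨f⟩ := hc
    exact (dihedral_not_tet (T.map (f := f.toMonoidHom) f.injective)).elim
  | borel P h =>
    exfalso
    have hc : r * i * r⁻¹ * i⁻¹ = j * i := by
      rw [T.ri, inv_eq_of_mul_eq_one_left T.ii]
    refine H42.no_borel_of_comm p (a := (r : G2)) (b := (i : G2)) (H42.not_dvd_two_of_odd p hodd) ?_ ?_ P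
      (h ⟨r, r.2, rfl⟩) (h ⟨i, i.2, rfl⟩)
    · intro e
      have e' : r * i * r⁻¹ * i⁻¹ = 1 := Subtype.ext (by simpa using e)
      rw [T.ri, mul_inv_eq_one] at e'
      exact T.nij e'.symm
    · have e' : (r * i * r⁻¹ * i⁻¹) ^ 2 = 1 := by
        rw [hc, pow_two, mul_assoc, ← mul_assoc i, T.comm, mul_assoc j i, T.ii, mul_one, T.jj]
      simpa using congrArg Subtype.val e'
  | a4 h => exact Or.inl (Or.inl h)
  | s4 h => exact Or.inl (Or.inr h)
  | a5 h =>
    refine Or.inr ⟨h, fun h5' => hH (Subgroup.eq_top_of_card_eq _ ?_)⟩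
    obtain ⟨e⟩ := h
    rw [Nat.card_congr e.toEquiv, H42.card_alt5]
    have := card_PSL2_mul (F := F)
    rw [h5', show Nat.gcd 2 (5 - 1) = 2 from rfl] at this
    omega
  | field P K h he =>
    exfalso
    apply hH
    have hK : Nat.card K = p := by
      obtain ⟨a, ha0, ha⟩ := H42.subfield_card_eq_pow (p := p) K
      have hle : Nat.card K ≤ Nat.card F := Nat.card_le_card_of_injective Subtype.val Subtype.val_injective
      rw [Nat.card_eq_fintype_card (α := F), hq, ha] at hle
      have : a = 1 := by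
        by_contra ha1
        have : p ^ 2 ≤ p ^ a := Nat.pow_le_pow_right (by omega) (by omega)
        have : p < p ^ 2 := by nlinarith
        omega
      rw [ha, this, pow_one]
    haveI : Fintype K := Fintype.ofFinite K
    have hG := card_PSL2_mul (F := F)
    rw [hq] at hG
    rcases he with he | he <;> obtain ⟨e⟩ := he
    · exfalso
      have hle := Subgroup.card_le_card_group H
      rw [Nat.card_congr e.toEquiv, card_PGL2, ← Nat.card_eq_fintype_card, hK] at hle
      have hg2 : Nat.gcd 2 (p - 1) = 2 := Nat.gcd_eq_left (by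
        obtain ⟨k, hk⟩ := hq ▸ hodd
        exact ⟨k, by omega⟩)
      rw [hg2] at hG
      have : 0 < p * (p ^ 2 - 1) := Nat.mul_pos (by omega) (Nat.sub_pos_of_lt (by nlinarith))
      omega
    · refine Subgroup.eq_top_of_card_eq _ ?_
      have h1 := card_PSL2_mul (F := K)
      rw [← Nat.card_eq_fintype_card, hK] at h1
      rw [Nat.card_congr e.toEquiv]
      exact Nat.eq_of_mul_eq_mul_left (Nat.gcd_pos_of_pos_left _ two_pos) (h1.trans hG.symm)

/-- Orders of elements. -/
theorem shape_orders (hq : Fintype.card F = p) (h5 : 5 ≤ p) {H : Subgroup G2} (hH : H ≠ ⊤) {i j r : H}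
    (T : Tet i j r) (y : H) :
    y ^ 2 = 1 ∨ y ^ 3 = 1 ∨ y ^ 4 = 1 ∨ (y ^ 5 = 1 ∧ Fintype.card F ≠ 5) := by
  have push : ∀ {X : Type} [Group X] (f : H →* X), Function.Injective f → ∀ n : ℕ, f y ^ n = 1 → y ^ n = 1 :=
    fun {X} _ f hf n h => hf (by rw [map_pow, h, map_one])
  rcases shape_cases p hq h5 hH T with (⟨⟨f⟩⟩ | ⟨⟨f⟩⟩) | ⟨⟨f⟩, h5'⟩
  · let g := (alternatingGroup (Fin 4)).subtype.comp f.toMonoidHom
    have hg : Function.Injective g := Subtype.val_injective.comp f.injective
    rcases perm4_orders (g y) with h | h | h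
    exacts [Or.inl (push g hg 2 h), Or.inr (Or.inl (push g hg 3 h)), Or.inr (Or.inr (Or.inl (push g hg 4 h)))]
  · rcases perm4_orders (f.toMonoidHom y) with h | h | h
    exacts [Or.inl (push _ f.injective 2 h), Or.inr (Or.inl (push _ f.injective 3 h)),
      Or.inr (Or.inr (Or.inl (push _ f.injective 4 h)))]
  · rcases alt5_orders (f.toMonoidHom y) with h | h | h
    exacts [Or.inl (push _ f.injective 2 h), Or.inr (Or.inl (push _ f.injective 3 h)),
      Or.inr (Or.inr (Or.inr ⟨push _ f.injective 5 h, h5'⟩))]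

/-- Either the four-group is normal, or the subgroup is icosahedral. -/
theorem shape_normal (hq : Fintype.card F = p) (h5 : 5 ≤ p) {H : Subgroup G2} (hH : H ≠ ⊤) {i j r : H}
    (T : Tet i j r) :
    (∀ x : H, (x * i * x⁻¹ = i ∨ x * i * x⁻¹ = j ∨ x * i * x⁻¹ = i * j) ∧ (x ^ 2 = 1 ∨ x ^ 3 = 1 ∨ x ^ 4 = 1)) ∨
      ((∀ y : H, y ^ 4 = 1 → y ^ 2 = 1) ∧ ∀ K : Subgroup H, K.Normal → i ∈ K → r ∈ K) := by
  have sym : ∀ (g : H →* Equiv.Perm (Fin 4)), Function.Injective g → ∀ x : H,
      (x * i * x⁻¹ = i ∨ x * i * x⁻¹ = j ∨ x * i * x⁻¹ = i * j) ∧ (x ^ 2 = 1 ∨ x ^ 3 = 1 ∨ x ^ 4 = 1) := by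
    intro g hg x
    refine ⟨?_, (perm4_orders (g x)).imp (fun h => hg (by rw [map_pow, h, map_one]))
      (fun h => h.imp (fun h => hg (by rw [map_pow, h, map_one])) (fun h => hg (by rw [map_pow, h, map_one])))⟩
    have T' := T.map hg
    have h := perm4_normal (g i) T'.ii T'.ne (g r) T'.rrr (by rw [T'.ri]; exact T'.comm)
      (by rw [T'.ri]; exact T'.nij) (g x)
    rw [T'.ri, ← map_inv, ← map_mul, ← map_mul, ← map_mul] at h
    rcases h with h | h | h
    exacts [Or.inl (hg h), Or.inr (Or.inl (hg h)), Or.inr (Or.inr (hg h))]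
  rcases shape_cases p hq h5 hH T with (⟨⟨f⟩⟩ | ⟨⟨f⟩⟩) | ⟨⟨f⟩, -⟩
  · exact Or.inl (sym ((alternatingGroup (Fin 4)).subtype.comp f.toMonoidHom)
      (Subtype.val_injective.comp f.injective))
  · exact Or.inl (sym f.toMonoidHom f.injective)
  · refine Or.inr ⟨fun y hy => ?_, fun K hK hi => ?_⟩
    · have key := alt5_four
      exact f.injective (by rw [map_pow, key _ (by rw [← map_pow, hy, map_one]), map_one])
    · haveI : (K.map f.toMonoidHom).Normal := hK.map _ f.surjective
      rcases IsSimpleGroup.eq_bot_or_eq_top_of_normal (K.map f.toMonoidHom) inferInstance with h | h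
      · exfalso
        have : f i = 1 := by
          have h' : f i ∈ K.map f.toMonoidHom := ⟨i, hi, rfl⟩
          rw [h] at h'
          simpa using h'
        exact T.ne (f.injective (by rw [this, map_one]))
      · obtain ⟨k, hk, hkr⟩ : f r ∈ K.map f.toMonoidHom := h ▸ Subgroup.mem_top _
        exact f.injective hkr ▸ hk

end H48.ExtraFour
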