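import Mathlib
import Cfsg.Agent.H48.ExtraFour.Proj
import Cfsg.Agent.H48.ExtraFour.Shape

/-!
# The centraliser of a frame vector, through its image in `PSL₂`
-/

set_option autoImplicit false
set_option linter.unusedSectionVars false
set_option linter.style.haveILetI false

open Matrix
open scoped MatrixGroups
open H49 (adjS adjS_mul adjS_one adjS_add adjS_smul adjS_zero adjS_sub adjS_neg adjS_adjS)
open H39 (proj tr proj_eq_proj_iff proj_surjective)

namespace H48.ExtraFour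

variable {F : Type*} [Field F]

local notation "SI" => (Fin 2 ⊕ Fin 2)
local notation "MS" => Matrix (Fin 2 ⊕ Fin 2) (Fin 2 ⊕ Fin 2) F

/-- A unit quaternion on the two planes. -/
def qi (e : Fin 5 → MS) : MS := e 1 * e 2

/-- A second one. -/
def qj (e : Fin 5 → MS) : MS := e 1 * e 3

/-- The element cycling the last three frame vectors. -/
def rho (e : Fin 5 → MS) : MS := (2 : F)⁻¹ • (e 2 * e 3 - e 2 * e 4 - 1 + e 3 * e 4)

/-- The possible traces in the tetrahedral and octahedral groups. -/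
def Leg4 (t : F) : Prop := t = 0 ∨ t ^ 2 = 1 ∨ t ^ 2 = 2

/-- The possible traces in a finite polyhedral group. -/
def Leg (t : F) : Prop :=
  t = 0 ∨ t ^ 2 = 1 ∨ t ^ 2 = 2 ∨ (Nat.card F ≠ 5 ∧ t ^ 4 - 3 * t ^ 2 + 1 = 0)

section sl2

lemma sl_quad (A : SL(2, F)) :
    (A : Matrix (Fin 2) (Fin 2) F) * A = tr A • (A : Matrix (Fin 2) (Fin 2) F) - 1 := by
  have h := A.2
  rw [Matrix.det_fin_two] at h
  ext i j
  fin_cases i <;> fin_cases j <;> simp [H39.tr_def, Matrix.mul_apply, Fin.sum_univ_two] <;>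
    first
      | linear_combination h
      | linear_combination -h
      | ring

lemma coeff_eq_zero {A : SL(2, F)} (hA : ∀ c : F, (A : Matrix (Fin 2) (Fin 2) F) ≠ c • 1) {a b c : F}
    (h : a • (A : Matrix (Fin 2) (Fin 2) F) + b • 1 = c • 1) : a = 0 := by
  by_contra ha
  refine hA (a⁻¹ * (c - b)) ?_
  rw [← smul_smul, sub_smul, ← h, add_sub_cancel_right, smul_smul, inv_mul_cancel₀ ha, one_smul]

lemma leg_of_order {A : SL(2, F)} (hA : ∀ c : F, (A : Matrix (Fin 2) (Fin 2) F) ≠ c • 1)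
    (h : proj A ^ 2 = 1 ∨ proj A ^ 3 = 1 ∨ proj A ^ 4 = 1 ∨ (proj A ^ 5 = 1 ∧ Nat.card F ≠ 5)) :
    Leg (tr A) := by
  set t := tr A with ht
  have key : ∀ n : ℕ, proj A ^ n = 1 → ∃ c : F, (A : Matrix (Fin 2) (Fin 2) F) ^ n = c • 1 := fun n hn => by
    rw [← map_pow, H39.proj_eq_one_iff, H39.mem_center_iff_pm] at hn
    rcases hn with h | h <;> have h' := congrArg Subtype.val h
    · exact ⟨1, by simpa using h'⟩
    · exact ⟨-1, by simpa using h'⟩
  have q := sl_quad A
  rw [← ht] at q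
  set X : Matrix (Fin 2) (Fin 2) F := A.1
  have p2 : X ^ 2 = t • X + (-1 : F) • 1 := by rw [pow_two, q]; module
  have step : ∀ (n : ℕ) (a b : F), X ^ n = a • X + b • 1 → X ^ (n + 1) = (a * t + b) • X + (-a) • 1 := by
    intro n a b hn
    rw [pow_succ, hn, add_mul, smul_mul_assoc, q, smul_mul_assoc, one_mul]
    module
  have p3 := step 2 _ _ p2
  have p4 := step 3 _ _ p3
  have p5 := step 4 _ _ p4
  rcases h with h | h | h | ⟨h, h5⟩ <;> obtain ⟨c, hc⟩ := key _ h
  · exact Or.inl (coeff_eq_zero hA (p2.symm.trans hc))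
  · right; left
    have := coeff_eq_zero hA (p3.symm.trans hc)
    linear_combination this
  · have := coeff_eq_zero hA (p4.symm.trans hc)
    have h0 : t * (t ^ 2 - 2) = 0 := by linear_combination this
    rcases mul_eq_zero.1 h0 with h0 | h0
    · exact Or.inl h0
    · exact Or.inr (Or.inr (Or.inl (sub_eq_zero.1 h0)))
  · exact Or.inr (Or.inr (Or.inr ⟨h5, by linear_combination coeff_eq_zero hA (p5.symm.trans hc)⟩))

lemma leg4_of_order {A : SL(2, F)} (hA : ∀ c : F, (A : Matrix (Fin 2) (Fin 2) F) ≠ c • 1)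
    (h : proj A ^ 2 = 1 ∨ proj A ^ 3 = 1 ∨ proj A ^ 4 = 1) : Leg4 (tr A) := by
  have key : ∀ n : ℕ, proj A ^ n = 1 → ∃ c : F, (A : Matrix (Fin 2) (Fin 2) F) ^ n = c • 1 := fun n hn => by
    rw [← map_pow, H39.proj_eq_one_iff, H39.mem_center_iff_pm] at hn
    rcases hn with h | h <;> have h' := congrArg Subtype.val h
    · exact ⟨1, by simpa using h'⟩
    · exact ⟨-1, by simpa using h'⟩
  set t := tr A with ht
  have q := sl_quad A
  rw [← ht] at q
  set X : Matrix (Fin 2) (Fin 2) F := A.1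
  have p2 : X ^ 2 = t • X + (-1 : F) • 1 := by rw [pow_two, q]; module
  have step : ∀ (n : ℕ) (a b : F), X ^ n = a • X + b • 1 → X ^ (n + 1) = (a * t + b) • X + (-a) • 1 := by
    intro n a b hn
    rw [pow_succ, hn, add_mul, smul_mul_assoc, q, smul_mul_assoc, one_mul]
    module
  have p3 := step 2 _ _ p2
  have p4 := step 3 _ _ p3
  rcases h with h | h | h <;> obtain ⟨c, hc⟩ := key _ h
  · exact Or.inl (coeff_eq_zero hA (p2.symm.trans hc))
  · exact Or.inr (Or.inl (by linear_combination coeff_eq_zero hA (p3.symm.trans hc)))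
  · have h0 : t * (t ^ 2 - 2) = 0 := by linear_combination coeff_eq_zero hA (p4.symm.trans hc)
    rcases mul_eq_zero.1 h0 with h0 | h0
    · exact Or.inl h0
    · exact Or.inr (Or.inr (sub_eq_zero.1 h0))

end sl2

variable {M : Subgroup (GL (Fin 2 ⊕ Fin 2) F)} {e : Fin 5 → Matrix (Fin 2 ⊕ Fin 2) (Fin 2 ⊕ Fin 2) F}

namespace Quad

variable (Q : Quad M e)
include Q

lemma inC_qi : InC M e (qi e) := Q.inC_pair (by decide) (by decide)

lemma inC_qj : InC M e (qj e) := Q.inC_pair (by decide) (by decide)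

lemma qi_sq : qi e * qi e = -1 := by
  rw [qi, mul_assoc, ← mul_assoc (e 2), Q.anti 2 1 (by decide), neg_mul, mul_neg, mul_assoc (e 1) (e 2), Q.sq,
    mul_one, Q.sq]

lemma qj_sq : qj e * qj e = -1 := by
  rw [qj, mul_assoc, ← mul_assoc (e 3), Q.anti 3 1 (by decide), neg_mul, mul_neg, mul_assoc (e 1) (e 3), Q.sq,
    mul_one, Q.sq]

lemma qj_qi : qj e * qi e = -(qi e * qj e) := by
  have a : ∀ i j : Fin 5, i ≠ j → ∀ X : MS, e i * (e j * X) = -(e j * (e i * X)) := fun i j h X => by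
    rw [← mul_assoc, Q.anti i j h, neg_mul, mul_assoc]
  have s : ∀ i (X : MS), e i * (e i * X) = X := fun i X => by rw [← mul_assoc, Q.sq, one_mul]
  simp only [qi, qj, mul_assoc, a 2 1 (by decide), a 3 1 (by decide), Q.anti 3 2 (by decide), mul_neg, s, neg_neg]

lemma rho_mul_adj : rho e * adjS (rho e) = 1 ∧ adjS (rho e) * rho e = 1 ∧ rho e * rho e * rho e = 1 ∧
    rho e * e 0 = e 0 * rho e ∧ rho e * e 1 = e 1 * rho e ∧ rho e * e 2 = e 3 * rho e ∧
    rho e * e 3 = e 4 * rho e := by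
  have a : ∀ i j : Fin 5, i ≠ j → ∀ X : MS, e i * (e j * X) = -(e j * (e i * X)) := fun i j h X => by
    rw [← mul_assoc, Q.anti i j h, neg_mul, mul_assoc]
  have s : ∀ i (X : MS), e i * (e i * X) = X := fun i X => by rw [← mul_assoc, Q.sq, one_mul]
  have h2 := Q.two
  refine ⟨?_, ?_, ?_, ?_, ?_, ?_, ?_⟩ <;>
    simp only [rho, adjS_smul, adjS_add, adjS_sub, adjS_mul, adjS_one, Q.adj, smul_mul_smul_comm, smul_mul_assoc,
      mul_smul_comm, mul_add, add_mul, mul_sub, sub_mul, mul_one, one_mul, mul_assoc, Q.sq, s, mul_neg, neg_mul,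
      neg_neg, a 1 0 (by decide), a 2 0 (by decide), a 3 0 (by decide), a 4 0 (by decide), a 2 1 (by decide),
      a 3 1 (by decide), a 4 1 (by decide), a 3 2 (by decide), a 4 2 (by decide), a 4 3 (by decide),
      Q.anti 1 0 (by decide), Q.anti 2 0 (by decide), Q.anti 3 0 (by decide), Q.anti 4 0 (by decide),
      Q.anti 2 1 (by decide), Q.anti 3 1 (by decide), Q.anti 4 1 (by decide), Q.anti 3 2 (by decide),
      Q.anti 4 2 (by decide), Q.anti 4 3 (by decide), smul_add, smul_sub, smul_smul, smul_neg] <;>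
    match_scalars <;> field_simp <;> ring

lemma inC_rho (hr : InM M (rho e)) : InC M e (rho e) := ⟨hr, Q.rho_mul_adj.2.2.2.1⟩

lemma rho_conj_qi : rho e * qi e * adjS (rho e) = qj e := by
  obtain ⟨h1, -, -, -, h11, h12, -⟩ := Q.rho_mul_adj
  rw [qi, qj, ← mul_assoc (rho e), h11, mul_assoc (e 1) (rho e), h12, ← mul_assoc, mul_assoc, h1, mul_one]

lemma rho_conj_qj : rho e * qj e * adjS (rho e) = e 1 * e 4 := by
  obtain ⟨h1, -, -, -, h11, -, h13⟩ := Q.rho_mul_adj
  rw [qj, ← mul_assoc (rho e), h11, mul_assoc (e 1) (rho e), h13, ← mul_assoc, mul_assoc, h1, mul_one]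

lemma one_four_hp : ∃ ε : F, ε * ε = 1 ∧ e 1 * e 4 * hp e = ε • (qi e * qj e * hp e) := by
  obtain ⟨ε, hε, h⟩ := Q.exists_orient
  have a : ∀ i j : Fin 5, i ≠ j → ∀ X : MS, e i * (e j * X) = -(e j * (e i * X)) := fun i j h X => by
    rw [← mul_assoc, Q.anti i j h, neg_mul, mul_assoc]
  have s : ∀ i (X : MS), e i * (e i * X) = X := fun i X => by rw [← mul_assoc, Q.sq, one_mul]
  have hIJ : qi e * qj e = -(e 2 * e 3) := by
    simp only [qi, qj, mul_assoc, a 2 1 (by decide), mul_neg, s]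
  have h14 : e 1 * e 4 * (e 1 * e 2 * e 3 * e 4) = -(e 2 * e 3) := by
    simp only [mul_assoc, a 4 1 (by decide), a 4 2 (by decide), a 4 3 (by decide), mul_neg, neg_neg, s, Q.sq, mul_one]
  refine ⟨ε, hε, ?_⟩
  rw [hIJ, ← h14, h, mul_smul_comm, smul_mul_assoc, smul_smul, hε, one_smul, mul_assoc (e 1 * e 4) (e 0),
    Q.e_mul_hp]

end Quad

variable [Fintype F]

namespace Pl

variable {B : Matrix (Fin 2 ⊕ Fin 2) (Fin 2) F} {L : Matrix (Fin 2) (Fin 2 ⊕ Fin 2) F}
  (P : Pl e B L) (Q : Quad M e)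
include P Q

lemma coe_toSL {X : MS} (hX : InC M e X) : (P.toSL Q hX : Matrix (Fin 2) (Fin 2) F) = L * X * B := rfl

lemma toSL_adj {X : MS} (hX : InC M e X) : P.toSL Q (Q.inC_adj hX) = (P.toSL Q hX)⁻¹ := by
  refine eq_inv_of_mul_eq_one_left (Subtype.ext ?_)
  rw [Matrix.SpecialLinearGroup.coe_mul, Matrix.SpecialLinearGroup.coe_one, P.coe_toSL Q, P.coe_toSL Q,
    ← P.pmap_mul Q _ hX.2, Q.adj_mul hX.1, P.pmap_one Q]

lemma toSL_smul {X Y : MS} (hX : InC M e X) (hY : InC M e Y) {c : F} (hc : c * c = 1)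
    (h : X * hp e = c • (Y * hp e)) : proj (P.toSL Q hX) = proj (P.toSL Q hY) := by
  have h' : L * X * B = c • (L * Y * B) := by
    rw [← P.map_hp Q X, h, Matrix.mul_smul, Matrix.smul_mul, P.map_hp Q]
  refine proj_eq_proj_iff.2 ?_
  rcases mul_self_eq_one_iff.1 hc with rfl | rfl
  · refine Or.inl (Subtype.ext ?_)
    rw [P.coe_toSL Q, P.coe_toSL Q, h', one_smul]
  · refine Or.inr (Subtype.ext ?_)
    rw [Matrix.SpecialLinearGroup.coe_neg, P.coe_toSL Q, P.coe_toSL Q, h', neg_one_smul, neg_neg]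

lemma ne_pm {X : MS} (hX : InC M e X) (hns : ∀ c : F, X * hp e ≠ c • hp e) :
    ∀ c : F, (P.toSL Q hX : Matrix (Fin 2) (Fin 2) F) ≠ c • 1 := by
  intro c h
  rw [P.coe_toSL Q] at h
  refine hns c ?_
  rw [← P.eq_of_map Q hX.2, h, Matrix.mul_smul, Matrix.mul_one, Matrix.smul_mul, P.right]

lemma qi_ne : ∀ c : F, qi e * hp e ≠ c • hp e := by
  intro c h
  have h1 : ptr e (qi e) = c * 2 := by
    rw [ptr, h, Matrix.trace_smul, ← one_mul (hp e), ← ptr, Q.ptr_one, smul_eq_mul]
  rw [qi, Q.ptr_pair (by decide) (by decide) (by decide), eq_comm, mul_eq_zero] at h1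
  obtain rfl := h1.resolve_right Q.two
  rw [zero_smul] at h
  have h3 : qi e * (qi e * hp e) = 0 := by rw [h, mul_zero]
  rw [← mul_assoc, Q.qi_sq, neg_mul, one_mul, neg_eq_zero] at h3
  have h4 := Q.ptr_one
  rw [ptr, one_mul, h3, Matrix.trace_zero] at h4
  exact Q.two h4.symm

/-- The image in `PSL₂`. -/
def bar : Subgroup (Matrix.ProjectiveSpecialLinearGroup (Fin 2) F) := (P.img Q).map proj

/-- The projective image of a member of the centraliser. -/
def toBar {X : MS} (hX : InC M e X) : P.bar Q := ⟨proj (P.toSL Q hX), ⟨_, P.toSL_mem Q hX, rfl⟩⟩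

lemma toBar_mul {X Y : MS} (hX : InC M e X) (hY : InC M e Y) :
    P.toBar Q (Q.inC_mul hX hY) = P.toBar Q hX * P.toBar Q hY :=
  Subtype.ext (by simp [toBar, P.toSL_mul Q hX hY])

lemma toBar_congr {X Y : MS} (hX : InC M e X) (hY : InC M e Y) {c : F} (hc : c * c = 1)
    (h : X * hp e = c • (Y * hp e)) : P.toBar Q hX = P.toBar Q hY :=
  Subtype.ext (P.toSL_smul Q hX hY hc h)

lemma toBar_one_of {X : MS} (hX : InC M e X) (h : X = -1 ∨ X = 1) : P.toBar Q hX = 1 := by
  have h' : P.toBar Q hX = P.toBar Q Q.inC_one := by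
    rcases h with rfl | rfl
    · exact P.toBar_congr Q _ _ (c := -1) (by ring) (by simp)
    · rfl
  rw [h']
  exact Subtype.ext (by
    show proj (P.toSL Q Q.inC_one) = 1
    rw [show P.toSL Q Q.inC_one = 1 from Subtype.ext (P.pmap_one Q), map_one])

lemma tet (hr : InM M (rho e)) :
    Tet (P.toBar Q Q.inC_qi) (P.toBar Q Q.inC_qj) (P.toBar Q (Q.inC_rho hr)) := by
  set i := P.toBar Q Q.inC_qi
  set j := P.toBar Q Q.inC_qj
  set r := P.toBar Q (Q.inC_rho hr)
  have hne : i ≠ 1 := fun h => by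
    have h' : proj (P.toSL Q Q.inC_qi) = 1 := congrArg Subtype.val h
    rw [H39.proj_eq_one_iff, H39.mem_center_iff_pm] at h'
    rcases h' with h' | h'
    · exact P.ne_pm Q Q.inC_qi (P.qi_ne Q) 1 (by rw [h', one_smul]; rfl)
    · exact P.ne_pm Q Q.inC_qi (P.qi_ne Q) (-1) (by rw [h', neg_one_smul]; rfl)
  have hcomm : i * j = j * i := by
    rw [← P.toBar_mul Q, ← P.toBar_mul Q]
    exact P.toBar_congr Q _ _ (c := -1) (by ring) (by rw [Q.qj_qi, neg_mul, neg_one_smul, neg_neg])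
  have hii : i * i = 1 := by
    rw [← P.toBar_mul Q]
    exact P.toBar_one_of Q _ (Or.inl Q.qi_sq)
  have hri : r * i * r⁻¹ = j := by
    rw [mul_inv_eq_iff_eq_mul, ← P.toBar_mul Q, ← P.toBar_mul Q]
    refine P.toBar_congr Q _ _ (c := 1) (one_mul 1) ?_
    rw [one_smul, ← Q.rho_conj_qi, mul_assoc _ (adjS (rho e)), Q.rho_mul_adj.2.1, mul_one]
  refine ⟨hii, hne, fun h => ?_, hcomm, ?_, hri, ?_⟩
  · -- equal images would commute exactly
    have h' : proj (P.toSL Q Q.inC_qi) = proj (P.toSL Q Q.inC_qj) := congrArg Subtype.val h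
    have hanti : L * qj e * B * (L * qi e * B) = -(L * qi e * B * (L * qj e * B)) := by
      rw [← P.pmap_mul Q _ Q.inC_qi.2, ← P.pmap_mul Q _ Q.inC_qj.2, Q.qj_qi, Matrix.mul_neg, Matrix.neg_mul]
    have hA := P.pmap_mul Q (qi e) Q.inC_qi.2
    rw [Q.qi_sq] at hA
    have hc : L * qj e * B = L * qi e * B ∨ L * qj e * B = -(L * qi e * B) := by
      rcases proj_eq_proj_iff.1 h' with h'' | h''
      · exact Or.inl (congrArg Subtype.val h'')
      · exact Or.inr (congrArg Subtype.val h'')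
    have h0 : (2 : F) • (1 : Matrix (Fin 2) (Fin 2) F) = 0 := by
      rcases hc with hc | hc <;> rw [hc] at hanti <;>
        simp only [Matrix.neg_mul, Matrix.mul_neg, ← hA, Matrix.mul_one, P.left, neg_neg] at hanti <;>
        rw [two_smul] <;> first
          | linear_combination (norm := module) hanti
          | linear_combination (norm := module) -hanti
    exact Q.two (by simpa using congrFun (congrFun h0 0) 0)
  · have e3 : r ^ 3 = r * r * r := by rw [pow_succ, pow_two]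
    rw [e3, ← P.toBar_mul Q, ← P.toBar_mul Q]
    exact P.toBar_one_of Q _ (Or.inr Q.rho_mul_adj.2.2.1)
  · rw [mul_inv_eq_iff_eq_mul, ← P.toBar_mul Q, ← P.toBar_mul Q, ← P.toBar_mul Q]
    obtain ⟨ε, hε, h⟩ := Q.one_four_hp
    refine P.toBar_congr Q _ _ (c := ε) hε ?_
    have h1 : rho e * qj e = e 1 * e 4 * rho e := by
      rw [← Q.rho_conj_qj, mul_assoc _ (adjS (rho e)), Q.rho_mul_adj.2.1, mul_one]
    rw [h1, mul_assoc _ (rho e), Q.hp_comm Q.rho_mul_adj.2.2.2.1, ← mul_assoc, h, smul_mul_assoc, mul_assoc _ (hp e),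
      ← Q.hp_comm Q.rho_mul_adj.2.2.2.1, ← mul_assoc]

variable (p : ℕ) [Fact p.Prime] [CharP F p]

lemma leg (hq : Fintype.card F = p) (h5 : 5 ≤ p) (hr : InM M (rho e)) (htop : P.bar Q ≠ ⊤) {X : MS}
    (hX : InC M e X) (hns : ∀ c : F, X * hp e ≠ c • hp e) : Leg (ptr e X) := by
  rw [← P.toSL_tr Q hX]
  refine leg_of_order (P.ne_pm Q hX hns) ?_
  have h := shape_orders p hq h5 htop (P.tet Q hr) (P.toBar Q hX)
  rw [Nat.card_eq_fintype_card]
  rcases h with h | h | h | ⟨h, h'⟩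
  · exact Or.inl (congrArg Subtype.val h)
  · exact Or.inr (Or.inl (congrArg Subtype.val h))
  · exact Or.inr (Or.inr (Or.inl (congrArg Subtype.val h)))
  · exact Or.inr (Or.inr (Or.inr ⟨congrArg Subtype.val h, h'⟩))

lemma normal_or (hq : Fintype.card F = p) (h5 : 5 ≤ p) (hr : InM M (rho e)) (htop : P.bar Q ≠ ⊤) :
    (∀ X : MS, InC M e X →
      (ptr e (X * qi e * adjS X * qi e) = 0 ∨ ptr e (X * qi e * adjS X * qi e) = 2 ∨
        ptr e (X * qi e * adjS X * qi e) = -2) ∧ ((∀ c : F, X * hp e ≠ c • hp e) → Leg4 (ptr e X))) ∨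
    ((∀ X : MS, InC M e X → ptr e X ^ 2 ≠ 2) ∧
      ((∃ X, InC M e X ∧ X * hm e = hm e ∧ X * hp e = qi e * hp e) →
        ∃ X, InC M e X ∧ X * hm e = hm e ∧ ∃ c : F, c * c = 1 ∧ X * hp e = c • (rho e * hp e))) := by
  rcases shape_normal p hq h5 htop (P.tet Q hr) with h | ⟨h4, hK⟩
  · left
    intro X hX
    have hY := Q.inC_mul (Q.inC_mul hX Q.inC_qi) (Q.inC_adj hX)
    have hconj : proj (P.toSL Q hY) = proj (P.toSL Q hX) * proj (P.toSL Q Q.inC_qi) * (proj (P.toSL Q hX))⁻¹ := by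
      rw [P.toSL_mul Q (Q.inC_mul hX Q.inC_qi) (Q.inC_adj hX), P.toSL_mul Q hX Q.inC_qi, P.toSL_adj Q, map_mul,
        map_mul, map_inv]
    have hval : ∀ Z : MS, ∀ hZ : InC M e Z, proj (P.toSL Q hY) = proj (P.toSL Q hZ) →
        ptr e (X * qi e * adjS X * qi e) = ptr e (Z * qi e) ∨
          ptr e (X * qi e * adjS X * qi e) = -ptr e (Z * qi e) := fun Z hZ hZY => by
      have hc : L * (X * qi e * adjS X) * B = L * Z * B ∨ L * (X * qi e * adjS X) * B = -(L * Z * B) := by
        rcases proj_eq_proj_iff.1 hZY with h'' | h''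
        · exact Or.inl (congrArg Subtype.val h'').symm
        · right
          have h3 : L * Z * B = -(L * (X * qi e * adjS X) * B) := congrArg Subtype.val h''
          rw [h3, neg_neg]
      rw [← P.trace_map Q, ← P.trace_map Q, P.pmap_mul Q _ Q.inC_qi.2, P.pmap_mul Q Z Q.inC_qi.2]
      rcases hc with hc | hc
      · exact Or.inl (by rw [hc])
      · exact Or.inr (by rw [hc, Matrix.neg_mul, Matrix.trace_neg])
    have a : ∀ i j : Fin 5, i ≠ j → ∀ W : MS, e i * (e j * W) = -(e j * (e i * W)) := fun i j h W => by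
      rw [← mul_assoc, Q.anti i j h, neg_mul, mul_assoc]
    have s : ∀ i (W : MS), e i * (e i * W) = W := fun i W => by rw [← mul_assoc, Q.sq, one_mul]
    refine ⟨?_, fun hns => ?_⟩
    swap
    · rw [← P.toSL_tr Q hX]
      refine leg4_of_order (P.ne_pm Q hX hns) ((h (P.toBar Q hX)).2.imp (fun h => congrArg Subtype.val h)
        (fun h => h.imp (fun h => congrArg Subtype.val h) (fun h => congrArg Subtype.val h)))
    rcases (h (P.toBar Q hX)).1 with h' | h' | h'
    · rcases hval _ Q.inC_qi (hconj.trans (congrArg Subtype.val h')) with e' | e' <;>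
        rw [Q.qi_sq, Q.ptr_neg, Q.ptr_one] at e'
      · exact Or.inr (Or.inr e')
      · exact Or.inr (Or.inl (by rwa [neg_neg] at e'))
    · have hz : ptr e (qj e * qi e) = 0 := by
        rw [show qj e * qi e = -(e 3 * e 2) by
          simp only [qi, qj, mul_assoc, a 3 1 (by decide), mul_neg, s], Q.ptr_neg,
          Q.ptr_pair (by decide) (by decide) (by decide), neg_zero]
      rcases hval _ Q.inC_qj (hconj.trans (congrArg Subtype.val h')) with e' | e' <;> rw [hz] at e'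
      · exact Or.inl e'
      · exact Or.inl (by rw [e', neg_zero])
    · have h' := h'.trans (P.toBar_mul Q Q.inC_qi Q.inC_qj).symm
      have hz : ptr e (qi e * qj e * qi e) = 0 := by
        rw [mul_assoc, Q.qj_qi, mul_neg, ← mul_assoc, Q.qi_sq, neg_mul, one_mul, neg_neg, qj,
          Q.ptr_pair (by decide) (by decide) (by decide)]
      rcases hval _ (Q.inC_mul Q.inC_qi Q.inC_qj) (hconj.trans (congrArg Subtype.val h')) with e' | e' <;>
        rw [hz] at e'
      · exact Or.inl e'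
      · exact Or.inl (by rw [e', neg_zero])
  · right
    refine ⟨fun X hX ht => ?_, fun ⟨X, hX, hXm, hXp⟩ => ?_⟩
    · set A := P.toSL Q hX
      have q := sl_quad A
      rw [P.toSL_tr Q hX] at q
      set Y : Matrix (Fin 2) (Fin 2) F := A.1
      set t := ptr e X
      have h2 := Q.two
      have hp4 : Y ^ 4 = -1 := by
        have e2 : Y ^ 2 = t • Y - 1 := by rw [pow_two, q]
        rw [show (4 : ℕ) = 2 * 2 from rfl, pow_mul, e2, pow_two, sub_mul, mul_sub, mul_sub, smul_mul_smul_comm,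
          mul_one, one_mul, one_mul, q, ← pow_two t, ht]
        match_scalars <;> linear_combination (2 : F) * (1 : F) - 2
      have hb4 : P.toBar Q hX ^ 4 = 1 := Subtype.ext (by
        show proj A ^ 4 = 1
        rw [← map_pow, H39.proj_eq_one_iff, H39.mem_center_iff_pm]
        exact Or.inr (Subtype.ext (by rw [Matrix.SpecialLinearGroup.coe_pow]; exact hp4)))
      have hb2 : proj A ^ 2 = 1 := congrArg Subtype.val (h4 _ hb4)
      have ht0 : t ≠ 0 := fun h0 => by rw [h0] at ht; exact h2 (by linear_combination -ht)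
      by_cases hsc : ∃ c : F, Y = c • 1
      · obtain ⟨c, hc⟩ := hsc
        have hdet := A.2
        have htr : t = 2 * c := by
          rw [show t = H39.tr A from (P.toSL_tr Q hX).symm, H39.tr_def]
          show Y 0 0 + Y 1 1 = _
          rw [hc]; simp; ring
        have hc1 : c * c = 1 := by
          rw [show A.1 = c • 1 from hc, Matrix.det_smul, Matrix.det_one] at hdet
          simpa [pow_two] using hdet
        exact h2 (by linear_combination ht - (t + 2 * c) * htr + (-4) * hc1)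
      · push Not at hsc
        rw [← map_pow, H39.proj_eq_one_iff, H39.mem_center_iff_pm] at hb2
        obtain ⟨c, hc⟩ : ∃ c : F, t • Y + (-1 : F) • 1 = c • (1 : Matrix (Fin 2) (Fin 2) F) := by
          have e2 : Y ^ 2 = t • Y + (-1 : F) • 1 := by rw [pow_two, q]; module
          rcases hb2 with hb2 | hb2 <;> have hb := congrArg Subtype.val hb2 <;>
            rw [Matrix.SpecialLinearGroup.coe_pow] at hb
          · exact ⟨1, by rw [← e2, one_smul]; exact hb⟩
          · exact ⟨-1, by rw [← e2, neg_one_smul]; exact hb⟩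
        exact ht0 (coeff_eq_zero hsc hc)
    · -- the kernel is normal in the image
      let K : Subgroup (P.bar Q) := ((P.ker Q).map proj).subgroupOf (P.bar Q)
      have hKn : K.Normal := ⟨fun k hk g => by
        obtain ⟨A, hA, hAk⟩ := Subgroup.mem_map.1 (Subgroup.mem_subgroupOf.1 hk)
        obtain ⟨D, hD, hDg⟩ := Subgroup.mem_map.1 g.2
        refine Subgroup.mem_subgroupOf.2 (Subgroup.mem_map.2 ⟨D * A * D⁻¹, P.ker_normalized Q hD hA, ?_⟩)
        rw [map_mul, map_mul, map_inv, hAk, hDg]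
        rfl⟩
      have hiK : P.toBar Q Q.inC_qi ∈ K :=
        Subgroup.mem_subgroupOf.2 (Subgroup.mem_map.2 ⟨P.toSL Q hX, ⟨X, hX, hXm, rfl⟩,
          P.toSL_smul Q hX Q.inC_qi (c := 1) (one_mul 1) (by rw [one_smul]; exact hXp)⟩)
      obtain ⟨A, ⟨Z, hZ, hZm, hZA⟩, hAr⟩ := Subgroup.mem_map.1 (Subgroup.mem_subgroupOf.1 (hK K hKn hiK))
      have hAr' : proj A = proj (P.toSL Q (Q.inC_rho hr)) := hAr
      refine ⟨Z, hZ, hZm, ?_⟩
      rcases proj_eq_proj_iff.1 hAr' with h' | h'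
      · refine ⟨1, one_mul 1, ?_⟩
        rw [one_smul, ← P.eq_of_map Q hZ.2, hZA, ← P.eq_of_map Q (Q.inC_rho hr).2, ← P.coe_toSL Q (Q.inC_rho hr), h']
      · refine ⟨-1, by ring, ?_⟩
        rw [neg_one_smul, ← P.eq_of_map Q hZ.2, hZA, ← P.eq_of_map Q (Q.inC_rho hr).2,
          ← P.coe_toSL Q (Q.inC_rho hr), h', Matrix.SpecialLinearGroup.coe_neg, Matrix.mul_neg, Matrix.neg_mul,
          neg_neg]

lemma img_top (htop : P.bar Q = ⊤) : P.img Q = ⊤ := by
  rw [eq_top_iff]
  intro A _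
  obtain ⟨C, hC, hCA⟩ : proj A ∈ P.bar Q := htop ▸ Subgroup.mem_top _
  rcases proj_eq_proj_iff.1 hCA with h | h
  · exact h ▸ hC
  · have hneg : -1 ∈ P.img Q := ⟨-1, ⟨Q.inM_neg_one, by simp⟩, by
      rw [Matrix.mul_neg, Matrix.neg_mul, P.pmap_one Q, Matrix.SpecialLinearGroup.coe_neg,
        Matrix.SpecialLinearGroup.coe_one]⟩
    rw [h, show -C = -1 * C by simp]
    exact mul_mem hneg hC

lemma ker_top (h5 : 5 ≤ Fintype.card F) (htop : P.bar Q = ⊤) {A : SL(2, F)} (hA : A ∈ P.ker Q)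
    (hA' : ∀ c : F, (A : Matrix (Fin 2) (Fin 2) F) ≠ c • 1) : P.ker Q = ⊤ := by
  classical
  haveI : IsSimpleGroup (Matrix.ProjectiveSpecialLinearGroup (Fin 2) F) :=
    Matrix.ProjectiveSpecialLinearGroup.rank_two_simple (by rw [Nat.card_eq_fintype_card]; omega)
  haveI hn : (P.ker Q).Normal := ⟨fun k hk g => P.ker_normalized Q (P.img_top Q htop ▸ Subgroup.mem_top g) hk⟩
  have hn' : ((P.ker Q).map proj).Normal := hn.map _ proj_surjective
  have htop' : (P.ker Q).map proj = ⊤ := by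
    refine (IsSimpleGroup.eq_bot_or_eq_top_of_normal _ hn').resolve_left fun h => ?_
    have h1 : proj A = 1 := by
      have : proj A ∈ (P.ker Q).map proj := ⟨A, hA, rfl⟩
      rw [h] at this
      simpa using this
    rw [H39.proj_eq_one_iff, H39.mem_center_iff_pm] at h1
    rcases h1 with rfl | rfl
    · exact hA' 1 (by simp)
    · exact hA' (-1) (by simp)
  obtain ⟨C, hC, hCI⟩ : proj (P.toSL Q Q.inC_qi) ∈ (P.ker Q).map proj := htop' ▸ Subgroup.mem_top _
  have hneg : -1 ∈ P.ker Q := by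
    have hCC : C * C = -1 := by
      apply Subtype.ext
      have hI : L * qi e * B * (L * qi e * B) = -1 := by
        rw [← P.pmap_mul Q _ Q.inC_qi.2, Q.qi_sq, Matrix.mul_neg, Matrix.neg_mul, P.pmap_one Q]
      rw [Matrix.SpecialLinearGroup.coe_mul, Matrix.SpecialLinearGroup.coe_neg, Matrix.SpecialLinearGroup.coe_one]
      rcases proj_eq_proj_iff.1 hCI with h | h <;> rw [← P.coe_toSL Q Q.inC_qi, h] at hI
      · exact hI
      · simpa [Matrix.SpecialLinearGroup.coe_neg] using hI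
    exact hCC ▸ mul_mem hC hC
  rw [eq_top_iff]
  intro Y _
  obtain ⟨D, hD, hDY⟩ : proj Y ∈ (P.ker Q).map proj := htop' ▸ Subgroup.mem_top _
  rcases proj_eq_proj_iff.1 hDY with h | h
  · exact h ▸ hD
  · rw [h, show -D = -1 * D by simp]
    exact mul_mem hneg hD

end Pl

end H48.ExtraFour
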