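import Mathlib
import Cfsg.Agent.H48.ExtraFour.Frame

/-!
# Monomial elements: relabelling frames and moving vectors
-/

set_option autoImplicit false
set_option linter.unusedSectionVars false

open Matrix
open H49 (adjS adjS_mul adjS_one adjS_add adjS_smul adjS_zero adjS_sub adjS_neg adjS_adjS)

namespace H48.ExtraFour

variable {F : Type*} [Field F]

local notation "SI" => (Fin 2 ⊕ Fin 2)
local notation "MS" => Matrix (Fin 2 ⊕ Fin 2) (Fin 2 ⊕ Fin 2) F

variable {M : Subgroup (GL (Fin 2 ⊕ Fin 2) F)} {e : Fin 5 → Matrix (Fin 2 ⊕ Fin 2) (Fin 2 ⊕ Fin 2) F}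

/-- A double transposition of coordinates. -/
def swap2 (i j k l : Fin 5) (x : Fin 5 → F) : Fin 5 → F :=
  fun m => x (Equiv.swap i j (Equiv.swap k l m))

/-- A change of two signs. -/
def flip2 (i j : Fin 5) (x : Fin 5 → F) : Fin 5 → F :=
  fun m => if m = i ∨ m = j then -x m else x m

namespace Quad

variable (Q : Quad M e)
include Q

lemma e_conj (i : Fin 5) (x : Fin 5 → F) :
    e i * fv e x * e i = fv e (fun m => if m = i then x m else -x m) := by
  have h := Q.fv_conj (Pi.single i 1) x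
  rw [fv_single, one_smul] at h
  rw [h]
  congr 1
  funext m
  by_cases hm : m = i
  · subst hm
    simp
    ring
  · simp [hm]

lemma orb_flip {x : Fin 5 → F} (hx : Orb M e x) {i j : Fin 5} (hij : i ≠ j) : Orb M e (flip2 i j x) := by
  have h := Q.cls_conj hx ((Q.mem i).mul (Q.mem j))
  rw [adjS_mul, Q.adj, Q.adj, show e i * e j * fv e x * (e j * e i) = e i * (e j * fv e x * e j) * e i by
    simp only [mul_assoc], Q.e_conj, Q.e_conj] at h
  show Cls M e _
  convert h using 2
  funext m
  by_cases hi : m = i <;> by_cases hj : m = j <;> simp [flip2, hi, hj]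
  · exact absurd (hi ▸ hj) hij
  · intro h
    exact absurd h hij
  · intro h
    exact absurd h.symm hij

/-- The vector conjugating by a difference of two frame vectors. -/
lemma diff_conj (i j : Fin 5) (hij : i ≠ j) (x : Fin 5 → F) :
    (e i - e j) * fv e x * (e i - e j) = fv e ((2 : F) • (-(fun m => x (Equiv.swap i j m)))) := by
  have hp : e i - e j = fv e (Pi.single i 1 - Pi.single j 1) := by simp [fv_sub, fv_single]
  rw [hp, Q.fv_conj]
  congr 1
  funext m
  by_cases hi : m = i
  · subst hi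
    simp [sub_dotProduct, dotProduct_sub, Pi.single_eq_of_ne hij, Pi.single_eq_of_ne hij.symm]
    ring
  · by_cases hj : m = j
    · subst hj
      simp [sub_dotProduct, dotProduct_sub, Pi.single_eq_of_ne hij, Pi.single_eq_of_ne hij.symm]
      ring
    · simp [sub_dotProduct, dotProduct_sub, Pi.single_eq_of_ne hij, Pi.single_eq_of_ne hij.symm,
        Pi.single_eq_of_ne hi, Pi.single_eq_of_ne hj, Equiv.swap_apply_of_ne_of_ne hi hj]
      left
      norm_num

lemma diff_sq (i j : Fin 5) (hij : i ≠ j) : (e i - e j) * (e i - e j) = (2 : F) • (1 : MS) := by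
  simp only [sub_mul, mul_sub, Q.sq, Q.anti i j hij]
  module

lemma adjS_diff (i j : Fin 5) : adjS (e i - e j) = e i - e j := by rw [adjS_sub, Q.adj, Q.adj]

lemma dt_conj {i j k l : Fin 5} (hij : i ≠ j) (hkl : k ≠ l) (x : Fin 5 → F) :
    ((2 : F)⁻¹ • ((e i - e j) * (e k - e l))) * fv e x * adjS ((2 : F)⁻¹ • ((e i - e j) * (e k - e l))) =
      fv e (swap2 k l i j x) := by
  rw [adjS_smul, adjS_mul, Q.adjS_diff, Q.adjS_diff]
  calc _ = ((2 : F)⁻¹ * (2 : F)⁻¹) • ((e i - e j) * ((e k - e l) * fv e x * (e k - e l)) * (e i - e j)) := by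
        simp only [smul_mul_assoc, mul_smul_comm, smul_smul, mul_assoc]
    _ = _ := by
      rw [Q.diff_conj k l hkl, Q.diff_conj i j hij, ← fv_smul]
      congr 1
      have := Q.two
      funext m
      simp [swap2]
      field_simp

lemma cls_neg {X : MS} (hX : Cls M e X) : Cls M e (-X) := by
  obtain ⟨x, rfl⟩ := Q.cls_exists hX
  obtain ⟨Y, hY, h⟩ := hX
  refine ⟨Y * e 1, hY.mul (Q.mem 1), ?_⟩
  rw [adjS_mul, Q.adj, show Y * e 1 * e 0 * (e 1 * adjS Y) = Y * (e 1 * e 0 * e 1) * adjS Y by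
    simp only [mul_assoc], Q.anti 1 0 (by decide), neg_mul, mul_assoc (e 0), Q.sq, mul_one, mul_neg, neg_mul, h]

end Quad

namespace Fr

variable (R : Fr M e)
include R

lemma dt_mem {i j k l : Fin 5} (hij : i ≠ j) (hkl : k ≠ l) :
    InM M ((2 : F)⁻¹ • ((e i - e j) * (e k - e l))) := by
  refine R.mono _ ?_ fun m => ?_
  · rw [adjS_smul, adjS_mul, R.adjS_diff, R.adjS_diff, smul_mul_smul_comm, mul_assoc, ← mul_assoc (e i - e j),
      R.diff_sq i j hij, smul_mul_assoc, one_mul, mul_smul_comm, R.diff_sq k l hkl, smul_smul, smul_smul]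
    have := R.two
    match_scalars
    field_simp
  · have h := R.dt_conj hij hkl (Pi.single m 1)
    rw [fv_single, one_smul] at h
    refine ⟨Equiv.swap i j (Equiv.swap k l m), 1, ?_⟩
    rw [h, one_smul, show swap2 k l i j (Pi.single m (1 : F)) = Pi.single (Equiv.swap i j (Equiv.swap k l m)) 1 by
      funext n
      simp only [swap2, Pi.single_apply]
      exact if_congr ⟨fun h => by rw [← h]; simp, fun h => by rw [h]; simp⟩ rfl rfl, fv_single, one_smul]

lemma orb_dt {x : Fin 5 → F} (hx : Orb M e x) {i j k l : Fin 5} (hij : i ≠ j) (hkl : k ≠ l) :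
    Orb M e (swap2 k l i j x) := by
  have h := R.cls_conj hx (R.dt_mem hij hkl)
  rwa [R.dt_conj hij hkl] at h

lemma cls_e (i : Fin 5) : Cls M e (e i) := by
  by_cases hi : i = 0
  · exact hi ▸ R.cls_self
  · obtain ⟨k, l, hkl, hk0, hl0, hki, hli⟩ :
        ∃ k l : Fin 5, k ≠ l ∧ k ≠ 0 ∧ l ≠ 0 ∧ k ≠ i ∧ l ≠ i := by
      revert hi; revert i; decide
    have h := R.orb_dt R.orb_single_zero (Ne.symm hi) hkl
    rw [show swap2 k l 0 i (Pi.single 0 (1 : F)) = Pi.single i 1 by
      funext n
      simp only [swap2, Pi.single_apply]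
      refine if_congr ?_ rfl rfl
      constructor
      · intro h
        rw [Equiv.apply_eq_iff_eq_symm_apply] at h
        simp [Equiv.swap_apply_of_ne_of_ne (Ne.symm hk0) (Ne.symm hl0)] at h
        rw [Equiv.swap_apply_def] at h
        split_ifs at h <;> simp_all
      · rintro rfl
        simp [Equiv.swap_apply_of_ne_of_ne (Ne.symm hk0) (Ne.symm hl0)], Orb, fv_single, one_smul] at h
    exact h

/-- A signed relabelling of a frame. -/
theorem relabel (σ : Equiv.Perm (Fin 5)) (s : Fin 5 → F) (hs : ∀ i, s i * s i = 1) :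
    Fr M (fun i => s i • e (σ i)) where
  two := R.two
  sub := R.sub
  sq i := by rw [smul_mul_smul_comm, R.sq, hs, one_smul]
  anti i j h := by
    rw [smul_mul_smul_comm, smul_mul_smul_comm, R.anti _ _ (σ.injective.ne h), mul_comm (s i), smul_neg]
  adj i := by rw [adjS_smul, R.adj]
  mem i := by
    rcases mul_self_eq_one_iff.1 (hs i) with h | h <;> rw [h]
    · rw [one_smul]; exact R.mem _
    · rw [neg_one_smul]; exact R.inM_neg (R.mem _)
  span X hX ht := by
    obtain ⟨x, hx⟩ := R.span X hX ht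
    refine ⟨fun i => s i * x (σ i), ?_⟩
    rw [hx, fv_comp]
    congr 1
    funext j
    simp only [Equiv.apply_symm_apply]
    linear_combination -(x j) * hs (σ.symm j)
  scal X hX := R.scal X fun i => by
    have h := hX (σ.symm i)
    simp only [Equiv.apply_symm_apply, mul_smul_comm, smul_mul_assoc] at h
    have h0 : s (σ.symm i) ≠ 0 := fun h0 => by simpa [h0] using hs (σ.symm i)
    exact smul_right_injective _ h0 h
  mono X hX h := R.mono X hX fun i => by
    obtain ⟨j, t, ht⟩ := h (σ.symm i)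
    simp only [Equiv.apply_symm_apply, mul_smul_comm, smul_mul_assoc, smul_smul] at ht
    refine ⟨σ j, s (σ.symm i) * (t * s j), ?_⟩
    rw [← smul_smul, ← ht, smul_smul, hs, one_smul]

lemma cls_relabel (σ : Equiv.Perm (Fin 5)) (s : Fin 5 → F) (hs : ∀ i, s i * s i = 1) {X : MS} :
    Cls M (fun i => s i • e (σ i)) X ↔ Cls M e X := by
  have h0 : Cls M e (s 0 • e (σ 0)) := by
    rcases mul_self_eq_one_iff.1 (hs 0) with h | h <;> rw [h]
    · rw [one_smul]; exact R.cls_e _
    · rw [neg_one_smul]; exact R.cls_neg (R.cls_e _)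
  obtain ⟨Z, hZ, hZe⟩ := h0
  constructor
  · rintro ⟨Y, hY, rfl⟩
    exact ⟨Y * Z, hY.mul hZ, by rw [adjS_mul, show Y * Z * e 0 * (adjS Z * adjS Y) = Y * (Z * e 0 * adjS Z) * adjS Y by
      simp only [mul_assoc], hZe]⟩
  · rintro ⟨Y, hY, rfl⟩
    refine ⟨Y * adjS Z, hY.mul (R.inM_adj hZ), ?_⟩
    dsimp only
    rw [← hZe, adjS_mul, adjS_adjS]
    conv_rhs => rw [← R.conj_conj hZ (e 0)]
    simp only [mul_assoc]

lemma orb_relabel (σ : Equiv.Perm (Fin 5)) (s : Fin 5 → F) (hs : ∀ i, s i * s i = 1) {x : Fin 5 → F}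
    (hx : Orb M e x) : Orb M (fun i => s i • e (σ i)) (fun i => s i * x (σ i)) := by
  show Cls M _ _
  rw [R.cls_relabel σ s hs, fv_comp]
  refine Eq.subst (motive := fun v => Cls M e (fv e v)) ?_ hx
  funext j
  simp only [Equiv.apply_symm_apply]
  linear_combination -(x j) * hs (σ.symm j)

lemma fv_relabel (σ : Equiv.Perm (Fin 5)) (s : Fin 5 → F) (hs : ∀ i, s i * s i = 1) (x : Fin 5 → F) :
    fv (fun i => s i • e (σ i)) (fun i => s i * x (σ i)) = fv e x := by
  rw [fv_comp]
  congr 1
  funext j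
  simp only [Equiv.apply_symm_apply]
  linear_combination (x j) * hs (σ.symm j)

end Fr

end H48.ExtraFour
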