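import Mathlib
import Cfsg.Agent.H48.ExtraFour.Local
import Cfsg.Agent.H48.ExtraFour.Moves

/-!
# Proper overgroups have small centralisers of frame vectors
-/

set_option autoImplicit false
set_option linter.unusedSectionVars false
set_option linter.style.haveILetI false

open Matrix
open scoped MatrixGroups
open H49 (adjS adjS_mul adjS_one adjS_add adjS_smul adjS_zero adjS_sub adjS_neg adjS_adjS)

namespace H48.ExtraFour

variable {F : Type*} [Field F]

local notation "SI" => (Fin 2 ⊕ Fin 2)
local notation "MS" => Matrix (Fin 2 ⊕ Fin 2) (Fin 2 ⊕ Fin 2) F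

/-- An orbit vector orthogonal to the first frame vector with all other coordinates of square `1/4`. -/
def HalfOrb (M : Subgroup (GL SI F)) (e : Fin 5 → MS) : Prop :=
  ∃ w, Orb M e w ∧ w 0 = 0 ∧ ∀ k : Fin 5, k ≠ 0 → 4 * (w k * w k) = 1

/-- What is known when the centraliser of the first frame vector is small. -/
structure Facts (M : Subgroup (GL SI F)) (e : Fin 5 → MS) : Prop where
  leg : ∀ X : MS, InC M e X → (∀ c : F, X * hp e ≠ c • hp e) → Leg (ptr e X)
  normal : (∀ X : MS, InC M e X →
      (ptr e (X * qi e * adjS X * qi e) = 0 ∨ ptr e (X * qi e * adjS X * qi e) = 2 ∨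
        ptr e (X * qi e * adjS X * qi e) = -2) ∧ ((∀ c : F, X * hp e ≠ c • hp e) → Leg4 (ptr e X))) ∨
    HalfOrb M e

variable {M : Subgroup (GL (Fin 2 ⊕ Fin 2) F)} {e : Fin 5 → Matrix (Fin 2 ⊕ Fin 2) (Fin 2 ⊕ Fin 2) F}

namespace Fr

variable (R : Fr M e)
include R

lemma rho_mem : InM M (rho e) := by
  obtain ⟨h1, h2, h3, h0, h11, h12, h13⟩ := R.rho_mul_adj
  refine R.mono _ h2 fun i => ?_
  have hconj : ∀ i j, rho e * e i = e j * rho e → rho e * e i * adjS (rho e) = (1 : F) • e j := fun i j h => by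
    rw [h, mul_assoc, h1, mul_one, one_smul]
  fin_cases i
  · exact ⟨0, 1, hconj 0 0 h0⟩
  · exact ⟨1, 1, hconj 1 1 h11⟩
  · exact ⟨3, 1, hconj 2 3 h12⟩
  · exact ⟨4, 1, hconj 3 4 h13⟩
  · refine ⟨2, 1, ?_⟩
    have h4 : rho e * rho e * e 2 = e 4 * (rho e * rho e) := by
      rw [mul_assoc, h12, ← mul_assoc, h13, mul_assoc]
    show rho e * e 4 * adjS (rho e) = (1 : F) • e 2
    apply hconj
    calc rho e * e 4 = rho e * e 4 * (rho e * rho e * rho e) := by rw [h3, mul_one]
      _ = rho e * (e 4 * (rho e * rho e)) * rho e := by simp only [mul_assoc]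
      _ = rho e * rho e * rho e * e 2 * rho e := by rw [← h4]; simp only [mul_assoc]
      _ = _ := by rw [h3, one_mul]

/-- The element inducing a unit quaternion on one plane and the identity on the other. -/
lemma iota_mem : InC M e (qi e * hp e + hm e) := by
  obtain ⟨ε, hε, hor⟩ := R.exists_orient
  have hI := R.inC_qi
  have a : ∀ i j : Fin 5, i ≠ j → ∀ X : MS, e i * (e j * X) = -(e j * (e i * X)) := fun i j h X => by
    rw [← mul_assoc, R.anti i j h, neg_mul, mul_assoc]
  have s : ∀ i (X : MS), e i * (e i * X) = X := fun i X => by rw [← mul_assoc, R.sq, one_mul]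
  have hadjI : adjS (qi e) = -qi e := by rw [qi, adjS_mul, R.adj, R.adj, R.anti 2 1 (by decide)]
  have hh2 : hm e * hm e = hm e := by
    have := congrArg (· * hm e) R.hp_add_hm
    simpa [add_mul, R.hp_mul_hm] using this
  have hX : adjS (qi e * hp e + hm e) = -(qi e * hp e) + hm e := by
    rw [adjS_add, adjS_mul, R.adjS_hp, R.adjS_hm, hadjI, mul_neg, ← R.hp_comm hI.2]
  have hcomm : (qi e * hp e + hm e) * e 0 = e 0 * (qi e * hp e + hm e) := by
    have h1 : hp e * e 0 = e 0 * hp e := by simp only [hp, smul_mul_assoc, mul_smul_comm, add_mul, mul_add, one_mul, mul_one]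
    have h2 : hm e * e 0 = e 0 * hm e := by simp only [hm, smul_mul_assoc, mul_smul_comm, sub_mul, mul_sub, one_mul, mul_one]
    rw [add_mul, mul_add, mul_assoc, h1, h2, ← mul_assoc, hI.2, mul_assoc]
  have hone : adjS (qi e * hp e + hm e) * (qi e * hp e + hm e) = 1 := by
    have h1 : qi e * hp e * (qi e * hp e) = -hp e := by
      rw [mul_assoc, ← mul_assoc (hp e), ← R.hp_comm hI.2, mul_assoc (qi e) (hp e), R.hp_mul_hp, ← mul_assoc,
        R.qi_sq, neg_mul, one_mul]
    have h2 : qi e * hp e * hm e = 0 := by rw [mul_assoc, R.hp_mul_hm, mul_zero]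
    have h3 : hm e * (qi e * hp e) = 0 := by
      rw [← mul_assoc, ← R.hm_comm hI.2, mul_assoc, R.hm_mul_hp, mul_zero]
    rw [hX, add_mul, mul_add, mul_add, neg_mul, neg_mul, h1, h2, h3, hh2, neg_zero, add_zero, zero_add, neg_neg,
      R.hp_add_hm]
  refine ⟨R.mono _ hone fun i => ?_, hcomm⟩
  by_cases hi0 : i = 0
  · subst hi0
    exact ⟨0, 1, by rw [hcomm, mul_assoc, mul_eq_one_comm.1 hone, mul_one, one_smul]⟩
  have hW : e i * e 0 = -(e 0 * e i) := R.anti i 0 hi0
  have hconj : (qi e * hp e + hm e) * e i * adjS (qi e * hp e + hm e) =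
      qi e * e i * hm e - e i * qi e * hp e := by
    have e1 : hp e * e i = e i * hm e := (R.hm_anti hW).symm
    have e2 : hm e * e i = e i * hp e := (R.hp_anti hW).symm
    rw [hX, add_mul, mul_assoc (qi e) (hp e) (e i), e1, e2, add_mul, mul_add, mul_add, mul_neg, mul_neg]
    simp only [mul_assoc]
    rw [show hm e * (qi e * hp e) = 0 by rw [← mul_assoc, ← R.hm_comm hI.2, mul_assoc, R.hm_mul_hp, mul_zero],
      show hp e * hm e = 0 from R.hp_mul_hm,
      show hp e * (qi e * hp e) = qi e * hp e by rw [← mul_assoc, ← R.hp_comm hI.2, mul_assoc, R.hp_mul_hp], hh2]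
    simp only [mul_zero, neg_zero, add_zero, zero_add]
    abel
  rw [hconj]
  have hsub : hm e - hp e = -(e 0) := by
    have := R.two
    simp only [hp, hm]
    match_scalars <;> field_simp <;> ring
  fin_cases i
  · exact absurd rfl hi0
  · refine ⟨2, -1, ?_⟩
    show qi e * e 1 * hm e - e 1 * qi e * hp e = (-1 : F) • e 2
    rw [show qi e * e 1 = -e 2 by simp only [qi, mul_assoc, R.anti 2 1 (by decide), mul_neg, s],
      show e 1 * qi e = e 2 by simp only [qi, s], neg_mul, ← neg_add', ← mul_add, add_comm (hm e), R.hp_add_hm,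
      mul_one, neg_one_smul]
  · refine ⟨1, 1, ?_⟩
    show qi e * e 2 * hm e - e 2 * qi e * hp e = (1 : F) • e 1
    rw [show qi e * e 2 = e 1 by simp only [qi, mul_assoc, R.sq, mul_one],
      show e 2 * qi e = -e 1 by simp only [qi, a 2 1 (by decide), R.sq, mul_one], neg_mul, sub_neg_eq_add, ← mul_add,
      add_comm (hm e), R.hp_add_hm, mul_one, one_smul]
  · refine ⟨4, ε, ?_⟩
    show qi e * e 3 * hm e - e 3 * qi e * hp e = ε • e 4
    have h123 : qi e * e 3 = ε • (e 0 * e 4) := by
      have := congrArg (· * e 4) hor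
      simpa [qi, mul_assoc, R.sq] using this
    rw [show e 3 * qi e = qi e * e 3 by simp only [qi, mul_assoc, a 3 1 (by decide), R.anti 3 2 (by decide), mul_neg,
        neg_neg],
      ← mul_sub, hsub, h123, smul_mul_assoc, mul_neg, mul_assoc, R.anti 4 0 (by decide), mul_neg, neg_neg, s]
  · refine ⟨3, -ε, ?_⟩
    show qi e * e 4 * hm e - e 4 * qi e * hp e = (-ε) • e 3
    have h124 : qi e * e 4 = (-ε) • (e 0 * e 3) := by
      have := congrArg (· * e 3) hor
      simp only [mul_assoc, R.anti 4 3 (by decide), mul_neg, s, smul_mul_assoc] at this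
      rw [neg_smul, ← this, neg_neg, qi, mul_assoc]
    rw [show e 4 * qi e = qi e * e 4 by simp only [qi, mul_assoc, a 4 1 (by decide), R.anti 4 2 (by decide), mul_neg,
        neg_neg],
      ← mul_sub, hsub, h124, smul_mul_assoc, mul_neg, mul_assoc, R.anti 3 0 (by decide), mul_neg, neg_neg, s]

lemma iota_hp : (qi e * hp e + hm e) * hp e = qi e * hp e := by
  rw [add_mul, mul_assoc, R.hp_mul_hp, R.hm_mul_hp, add_zero]

lemma iota_hm : (qi e * hp e + hm e) * hm e = hm e := by
  have hh2 : hm e * hm e = hm e := by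
    have := congrArg (· * hm e) R.hp_add_hm
    simpa [add_mul, R.hp_mul_hm] using this
  rw [add_mul, mul_assoc, R.hp_mul_hm, mul_zero, zero_add, hh2]

/-- A kernel element of order three moves a frame vector to a vector with all coordinates `±1/2`. -/
lemma halfOrb_of_rho {Z : MS} (hZ : InC M e Z) (hZm : Z * hm e = hm e) {c : F} (hc : c * c = 1)
    (hZp : Z * hp e = c • (rho e * hp e)) : HalfOrb M e := by
  obtain ⟨ε, hε, hor⟩ := R.exists_orient
  have hW : Cls M e (Z * e 1 * adjS Z) := R.cls_conj (R.cls_e 1) hZ.1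
  obtain ⟨w, hw⟩ := R.cls_exists hW
  refine ⟨w, by show Cls M e _; rw [← hw]; exact hW, ?_, ?_⟩
  · have h1 : fv e w * e 0 = -(e 0 * fv e w) := by
      rw [← hw, mul_assoc, (R.inC_adj hZ).2, ← mul_assoc, mul_assoc Z (e 1) (e 0), R.anti 1 0 (by decide), mul_neg,
        ← mul_assoc, hZ.2, neg_mul]
      simp only [mul_assoc]
    have h2 := R.anticomm w (Pi.single 0 1)
    rw [fv_single, one_smul, h1, neg_add_cancel] at h2
    have h3 : (2 : F) * w 0 = 0 := by simpa using (congrFun (congrFun h2 (Sum.inl 0)) (Sum.inl 0)).symm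
    exact (mul_eq_zero.1 h3).resolve_left R.two
  intro k hk
  have hwk : ptr e (fv e w * e k) = c * ptr e (rho e * (e 1 * e k)) := by
    rw [ptr, ptr, ← hw]
    have hk' : e k * e 0 = -(e 0 * e k) := R.anti k 0 hk
    have h10 : e 1 * e 0 = -(e 0 * e 1) := R.anti 1 0 (by decide)
    rw [show Z * e 1 * adjS Z * e k * hp e = Z * (hp e * (e 1 * e k)) by
      rw [mul_assoc _ (e k), R.hp_anti hk', ← mul_assoc, mul_assoc (Z * e 1) (adjS Z),
        show adjS Z * hm e = hm e by
          conv_lhs => rw [← hZm, ← mul_assoc, R.adj_mul hZ.1, one_mul],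
        mul_assoc Z (e 1), R.hm_anti h10]
      simp only [mul_assoc],
      ← mul_assoc, hZp, smul_mul_assoc, Matrix.trace_smul, smul_eq_mul, mul_assoc (rho e) (hp e),
      ← R.hp_comm (R.inC_pair (by decide) hk).2, ← mul_assoc]
  have hval : ptr e (rho e * (e 1 * e k)) * ptr e (rho e * (e 1 * e k)) = 1 := by
    have a : ∀ i j : Fin 5, i ≠ j → ∀ X : MS, e i * (e j * X) = -(e j * (e i * X)) := fun i j h X => by
      rw [← mul_assoc, R.anti i j h, neg_mul, mul_assoc]
    have s : ∀ i (X : MS), e i * (e i * X) = X := fun i X => by rw [← mul_assoc, R.sq, one_mul]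
    have p4 : ptr e (e 1 * (e 2 * (e 3 * e 4))) = ε * 2 := by
      rw [show e 1 * (e 2 * (e 3 * e 4)) = ε • e 0 by rw [← hor]; simp only [mul_assoc], R.ptr_smul]
      congr 1
      rw [← R.ptr_one]
      show (e 0 * hp e).trace = ((1 : MS) * hp e).trace
      rw [R.e_mul_hp, one_mul]
    have h2 := R.two
    fin_cases k
    · exact absurd rfl hk
    all_goals
      simp only [rho, Fin.mk_one, Fin.reduceFinMk, smul_mul_assoc, add_mul, sub_mul, one_mul, mul_assoc, R.sq, s,
        mul_one, mul_neg, neg_mul, neg_neg, a 2 1 (by decide), a 3 1 (by decide), a 4 1 (by decide), a 3 2 (by decide),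
        a 4 2 (by decide), a 4 3 (by decide), R.anti 2 1 (by decide), R.anti 3 1 (by decide), R.anti 4 1 (by decide),
        R.anti 3 2 (by decide), R.anti 4 2 (by decide), R.anti 4 3 (by decide), R.ptr_smul, R.ptr_add, R.ptr_neg,
        sub_eq_add_neg, R.ptr_one, p4, R.ptr_pair (i := 1) (j := 2) (by decide) (by decide) (by decide),
        R.ptr_pair (i := 1) (j := 3) (by decide) (by decide) (by decide),
        R.ptr_pair (i := 1) (j := 4) (by decide) (by decide) (by decide),
        R.ptr_pair (i := 2) (j := 3) (by decide) (by decide) (by decide),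
        R.ptr_pair (i := 2) (j := 4) (by decide) (by decide) (by decide),
        R.ptr_pair (i := 3) (j := 4) (by decide) (by decide) (by decide)]
      field_simp
      first
        | ring1
        | linear_combination hε
        | linear_combination (4 : F) * hε
        | (ring_nf; linear_combination (4 : F) * hε)
  have hw0 : w 0 = 0 := by
    have h1 : fv e w * e 0 = -(e 0 * fv e w) := by
      rw [← hw, mul_assoc, (R.inC_adj hZ).2, ← mul_assoc, mul_assoc Z (e 1) (e 0), R.anti 1 0 (by decide), mul_neg,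
        ← mul_assoc, hZ.2, neg_mul]
      simp only [mul_assoc]
    have h2 := R.anticomm w (Pi.single 0 1)
    rw [fv_single, one_smul, h1, neg_add_cancel] at h2
    have h3 : (2 : F) * w 0 = 0 := by simpa using (congrFun (congrFun h2 (Sum.inl 0)) (Sum.inl 0)).symm
    exact (mul_eq_zero.1 h3).resolve_left R.two
  rw [R.ptr_fv_e hw0 hk] at hwk
  linear_combination (2 * w k + c * ptr e (rho e * (e 1 * e k))) * hwk + c * c * hval + hc

/-- Either everything, or small centralisers. -/
theorem sp_or_facts [Fintype F] (p : ℕ) [Fact p.Prime] [CharP F p] (hq : Fintype.card F = p) (h5 : 5 ≤ p) :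
    Cfsg.spGL 2 F ≤ M ∨ Facts M e := by
  obtain ⟨B, L, P⟩ := R.exists_pl
  have Q := R.toQuad
  by_cases htop : P.bar Q = ⊤
  · left
    have hA : P.toSL Q R.iota_mem ∈ P.ker Q := ⟨_, R.iota_mem, R.iota_hm, rfl⟩
    have hne := P.ne_pm Q R.iota_mem (fun c h => by
      rw [R.iota_hp] at h
      exact P.qi_ne Q c h)
    exact sp_le_of_ker Q P (P.ker_top Q (hq ▸ h5) htop hA hne) (R.cls_e 1) (R.anti 1 0 (by decide))
  · refine Or.inr ⟨fun X hX hns => P.leg Q p hq h5 R.rho_mem htop hX hns, ?_⟩
    rcases P.normal_or Q p hq h5 R.rho_mem htop with h | ⟨-, h⟩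
    · exact Or.inl h
    · obtain ⟨Z, hZ, hZm, c, hc, hZp⟩ := h ⟨_, R.iota_mem, R.iota_hm, R.iota_hp⟩
      exact Or.inr (R.halfOrb_of_rho hZ hZm hc hZp)

end Fr

end H48.ExtraFour
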