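import Mathlib
import Cfsg.Agent.H48.ExtraFour.Facts
import Cfsg.Agent.H48.ExtraFour.Central

/-!
# A small overgroup moves no frame vector to one with four coordinates `±1/2`
-/

set_option autoImplicit false
set_option linter.unusedSectionVars false
set_option linter.style.haveILetI false

open Matrix
open H49 (adjS adjS_mul adjS_one adjS_add adjS_smul adjS_zero adjS_sub adjS_neg adjS_adjS)

namespace H48.ExtraFour

variable {F : Type*} [Field F]

local notation "MS" => Matrix (Fin 2 ⊕ Fin 2) (Fin 2 ⊕ Fin 2) F

variable {M : Subgroup (GL (Fin 2 ⊕ Fin 2) F)} {e : Fin 5 → Matrix (Fin 2 ⊕ Fin 2) (Fin 2 ⊕ Fin 2) F}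

lemma mul_five_eq_zero (h : (5 : F) = 0) (x : F) : x * 5 = 0 := by rw [h, mul_zero]

lemma natCast_ne_zero_of_mod {p : ℕ} [CharP F p] {n : ℕ} (h : ¬ p ∣ n) : (n : F) ≠ 0 :=
  fun h0 => h ((CharP.cast_eq_zero_iff F p n).1 h0)

namespace Quad

variable (Q : Quad M e)
include Q

lemma inM_fv_norm {x : Fin 5 → F} (hx : InM M (fv e x)) : x ⬝ᵥ x = 1 := by
  have h := Q.adj_mul hx
  rw [Q.adjS_fv, Q.fv_sq] at h
  simpa using congrFun (congrFun h (Sum.inl 0)) (Sum.inl 0)

/-- The trace condition for a product with a vector having two nonzero coordinates. -/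
lemma leg_fv (hF : Facts M e) {g : MS} (hg : InC M e g) {x : Fin 5 → F} (hx : x 0 = 0) {k l : Fin 5} (hk : k ≠ 0)
    (hl : l ≠ 0) (hlk : l ≠ k) (hxl : x l ≠ 0) (h : g * hp e = fv e x * e k * hp e) : Leg (2 * x k) := by
  have h1 : ptr e g = 2 * x k := by rw [ptr, h, ← ptr, Q.ptr_fv_e hx hk]
  rw [← h1]
  exact hF.leg g hg fun c hc => hxl (Q.coord_of_scalar hx hk (h.symm.trans hc) hl hlk)

end Quad

namespace Fr

variable (R : Fr M e)
include R

set_option maxHeartbeats 1000000 in
/-- An orbit vector with coordinates `(0, ½, ½, ½, ½)` gives the symplectic group. -/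
lemma no_half_std [Fintype F] {p : ℕ} [Fact p.Prime] [CharP F p] (hq : Fintype.card F = p) (h5 : 5 ≤ p)
    (hF : ∀ e' : Fin 5 → MS, Fr M e' → Facts M e') (hh : Orb M e ![0, 2⁻¹, 2⁻¹, 2⁻¹, 2⁻¹]) : False := by
  have hpr : p.Prime := Fact.out
  have hne : ∀ n : ℕ, ¬ p ∣ n → (n : F) ≠ 0 := fun n h => natCast_ne_zero_of_mod h
  have h2 : (2 : F) ≠ 0 := R.two
  have h3 : (3 : F) ≠ 0 := by
    exact_mod_cast hne 3 (fun h => by have := Nat.le_of_dvd (by norm_num) h; omega)
  set h : Fin 5 → F := ![0, 2⁻¹, 2⁻¹, 2⁻¹, 2⁻¹] with hhdef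
  have hu : Orb M e ![2⁻¹, 0, 2⁻¹, 2⁻¹, 2⁻¹] := by
    have := R.orb_dt hh (i := 0) (j := 1) (k := 2) (l := 3) (by decide) (by decide)
    convert this using 1
    funext m
    fin_cases m <;> simp [swap2, hhdef, Equiv.swap_apply_def]
  have hv : Orb M e ![-2⁻¹, 3 / 4, 4⁻¹, 4⁻¹, 4⁻¹] := by
    have := R.orb_reflect hh hu
    convert this using 1
    funext m
    have h4 := R.four
    fin_cases m <;> simp [hhdef, dotProduct, Fin.sum_univ_five] <;> field_simp <;> ring
  by_cases hp5 : p = 5
  · -- in characteristic five a further reflection has an impossible trace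
    subst hp5
    have h50 : (5 : F) = 0 := by exact_mod_cast (CharP.cast_eq_zero F 5)
    set v : Fin 5 → F := ![-2⁻¹, 3 / 4, 4⁻¹, 4⁻¹, 4⁻¹]
    have hvv : v = ![2, 2, 4, 4, 4] := by
      have h4 := R.four
      funext m
      fin_cases m <;> simp [v] <;> field_simp <;>
        first
          | linear_combination -h50
          | linear_combination h50
          | linear_combination (3 : F) * h50
          | linear_combination -(3 : F) * h50
          | linear_combination (2 : F) * h50
          | linear_combination -(2 : F) * h50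
    rw [hvv] at hv
    have hx : Orb M e ![1, 1, 0, 0, 2] := by
      have := R.orb_reflect hv (R.orb_flip hv (i := 2) (j := 3) (by decide))
      convert this using 1
      funext m
      fin_cases m <;> simp [dotProduct, Fin.sum_univ_five, flip2] <;>
        first
          | linear_combination (0 : F) * h50
          | linear_combination (-1 : F) * h50
          | linear_combination (1 : F) * h50
          | linear_combination (-2 : F) * h50
          | linear_combination (2 : F) * h50
          | linear_combination (-3 : F) * h50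
          | linear_combination (3 : F) * h50
          | linear_combination (-4 : F) * h50
          | linear_combination (4 : F) * h50
          | linear_combination (-5 : F) * h50
          | linear_combination (5 : F) * h50
          | linear_combination (-6 : F) * h50
          | linear_combination (6 : F) * h50
          | linear_combination (-7 : F) * h50
          | linear_combination (7 : F) * h50
          | linear_combination (-8 : F) * h50
          | linear_combination (8 : F) * h50
          | linear_combination (-9 : F) * h50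
          | linear_combination (9 : F) * h50
          | linear_combination (-10 : F) * h50
          | linear_combination (10 : F) * h50
          | linear_combination (-11 : F) * h50
          | linear_combination (11 : F) * h50
          | linear_combination (-12 : F) * h50
          | linear_combination (12 : F) * h50
          | linear_combination (-13 : F) * h50
          | linear_combination (13 : F) * h50
          | linear_combination (-14 : F) * h50
          | linear_combination (14 : F) * h50
          | linear_combination (-15 : F) * h50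
          | linear_combination (15 : F) * h50
          | linear_combination (-16 : F) * h50
          | linear_combination (16 : F) * h50
          | linear_combination (-17 : F) * h50
          | linear_combination (17 : F) * h50
          | linear_combination (-18 : F) * h50
          | linear_combination (18 : F) * h50
          | linear_combination (-19 : F) * h50
          | linear_combination (19 : F) * h50
          | linear_combination (-20 : F) * h50
          | linear_combination (20 : F) * h50
    have hs : ∀ i : Fin 5, (1 : F) * 1 = 1 := fun _ => one_mul 1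
    have R' := R.relabel (Equiv.swap 0 2) (fun _ => 1) hs
    have hx' := R.orb_relabel (Equiv.swap 0 2) (fun _ => 1) hs hx
    have hM := R'.orb_inM hx'
    have hg : InC M (fun i => (1 : F) • e (Equiv.swap 0 2 i))
        (fv (fun i => (1 : F) • e (Equiv.swap 0 2 i)) (fun i => 1 * (![1, 1, 0, 0, 2] : Fin 5 → F) (Equiv.swap 0 2 i)) *
          (1 : F) • e (Equiv.swap 0 2 1)) := by
      have h := R'.toQuad.inC_fv_pair (x := fun i => 1 * (![1, 1, 0, 0, 2] : Fin 5 → F) (Equiv.swap 0 2 i))
        (y := Pi.single 1 1) (by simp) (by simp) hM (by rw [fv_single, one_smul]; exact R'.mem 1)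
      rwa [fv_single, one_smul] at h
    have hleg := R'.toQuad.leg_fv (hF _ R') hg (x := fun i => 1 * (![1, 1, 0, 0, 2] : Fin 5 → F) (Equiv.swap 0 2 i))
      (by simp) (k := 1) (l := 4) (by decide) (by decide) (by decide)
      (by simp [Equiv.swap_apply_def]; exact h2) rfl
    simp [Equiv.swap_apply_def] at hleg
    rcases hleg with h' | h' | h' | ⟨h', -⟩
    · exact h2 h'
    · exact h3 (by linear_combination h')
    · exact h2 (by linear_combination h')
    · exact h' (by rw [Nat.card_eq_fintype_card, hq])
  · -- the three candidates for the central element of a dihedral group all have impossible traces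
    have h7 : 7 ≤ p := by
      rcases Nat.lt_or_ge p 7 with hlt | hge
      · interval_cases p <;> norm_num at *
      · exact hge
    have hne' : ∀ n : ℕ, 0 < n → n < p → (n : F) ≠ 0 := fun n h0 hn =>
      hne n fun h => by have := Nat.le_of_dvd h0 h; omega
    have h5' : (5 : F) ≠ 0 := by exact_mod_cast hne' 5 (by norm_num) (by omega)
    set v : Fin 5 → F := ![-2⁻¹, 3 / 4, 4⁻¹, 4⁻¹, 4⁻¹]
    set E : MS := fv e ![0, 1, -3, 0, 0] with hEdef
    set N : MS := fv e ![0, 3, 1, 5, 5] with hNdef
    set a : MS := e 0 with hadef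
    set Ω : MS := a * (E * N) with hΩ
    have hsingle : ∀ i : Fin 5, fv e (Pi.single i 1) = e i := fun i => by rw [fv_single, one_smul]
    have hEE : E * E = (10 : F) • (1 : MS) := by
      rw [hEdef, R.fv_sq]
      congr 1
      simp [dotProduct, Fin.sum_univ_five]
      norm_num
    have hNN : N * N = (60 : F) • (1 : MS) := by
      rw [hNdef, R.fv_sq]
      congr 1
      simp [dotProduct, Fin.sum_univ_five]
      norm_num
    have hEN : N * E = -(E * N) := by
      rw [hEdef, hNdef]
      refine R.fv_anti ?_
      simp [dotProduct, Fin.sum_univ_five]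
    have hEa : E * a = -(a * E) := R.fv_anti_zero (by simp)
    have hNa : N * a = -(a * N) := R.fv_anti_zero (by simp)
    have haa : a * a = 1 := R.sq 0
    have hE' : ∀ X : MS, E * (E * X) = (10 : F) • X := fun X => by rw [← mul_assoc, hEE, smul_one_mul]
    have hN' : ∀ X : MS, N * (N * X) = (60 : F) • X := fun X => by rw [← mul_assoc, hNN, smul_one_mul]
    have hEN' : ∀ X : MS, N * (E * X) = -(E * (N * X)) := fun X => by rw [← mul_assoc, hEN, neg_mul, mul_assoc]
    have hEa' : ∀ X : MS, E * (a * X) = -(a * (E * X)) := fun X => by rw [← mul_assoc, hEa, neg_mul, mul_assoc]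
    have hNa' : ∀ X : MS, N * (a * X) = -(a * (N * X)) := fun X => by rw [← mul_assoc, hNa, neg_mul, mul_assoc]
    have haa' : ∀ X : MS, a * (a * X) = X := fun X => by rw [← mul_assoc, haa, one_mul]
    have hadjE : adjS E = E := R.adjS_fv _
    have hadjN : adjS N = N := R.adjS_fv _
    have hadja : adjS a = a := R.adj 0
    have hadjΩ : adjS Ω = -Ω := by
      rw [hΩ, adjS_mul, adjS_mul, hadjE, hadjN, hadja]
      simp only [mul_assoc, hEa, hNa, hEN', hEa', hNa', mul_neg, neg_mul, neg_neg, hEN]
    -- the plane-type element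
    set r1 : Fin 5 → F := (2 * (v ⬝ᵥ Pi.single 1 1)) • v - Pi.single 1 1 with hr1
    set r2 : Fin 5 → F := (2 * (v ⬝ᵥ Pi.single 2 1)) • v - Pi.single 2 1 with hr2
    have ho1 : Orb M e r1 := R.orb_reflect hv (by show Cls M e _; rw [hsingle]; exact R.cls_e 1)
    have ho2 : Orb M e r2 := R.orb_reflect hv (by show Cls M e _; rw [hsingle]; exact R.cls_e 2)
    have h4 := R.four
    have h40 : (40 : F) ≠ 0 := by
      rw [show (40 : F) = 2 * 2 * 2 * 5 by norm_num]
      exact mul_ne_zero (mul_ne_zero (mul_ne_zero h2 h2) h2) h5'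
    have h10 : (10 : F) ≠ 0 := by
      rw [show (10 : F) = 2 * 5 by norm_num]
      exact mul_ne_zero h2 h5'
    have h8 : (8 : F) ≠ 0 := by
      rw [show (8 : F) = 2 * 2 * 2 by norm_num]
      exact mul_ne_zero (mul_ne_zero h2 h2) h2
    have hr2e : fv e r2 = -(4⁻¹ : F) • a + (3 / 10 : F) • E + (40⁻¹ : F) • N := by
      rw [hadef, hEdef, hNdef, ← hsingle 0, ← fv_smul, ← fv_smul, ← fv_smul, ← fv_add, ← fv_add]
      congr 1
      funext m
      simp only [hr2, Pi.sub_apply, Pi.add_apply, Pi.smul_apply, Pi.single_apply, smul_eq_mul, dotProduct_single]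
      fin_cases m <;> simp [v] <;> field_simp <;> ring
    have hr1e : fv e r1 = (3 : F) • fv e r2 - E := by
      rw [hEdef, ← fv_smul, ← fv_sub]
      congr 1
      funext m
      simp only [hr1, hr2, Pi.sub_apply, Pi.smul_apply, Pi.single_apply, smul_eq_mul, dotProduct_single]
      fin_cases m <;> simp [v] <;> field_simp <;> ring
    set T : MS := fv e r1 * fv e r2 with hTdef
    have hT : InM M T := (R.orb_inM ho1).mul (R.orb_inM ho2)
    have hTT : T * T = -1 := by
      have h12 : fv e r2 * fv e r1 = -(fv e r1 * fv e r2) := R.fv_anti (by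
        have hvv : v ⬝ᵥ v = 1 := R.orb_norm hv
        simp only [hr1, hr2, sub_dotProduct, dotProduct_sub, smul_dotProduct, dotProduct_smul, single_dotProduct,
          dotProduct_single, hvv, smul_eq_mul, Pi.single_apply]
        simp [v]
        field_simp
        ring)
      rw [hTdef, mul_assoc, ← mul_assoc (fv e r2), h12, neg_mul, mul_neg, mul_assoc (fv e r1) (fv e r2), R.fv_sq r2,
        R.orb_norm ho2, one_smul, mul_one, R.fv_sq, R.orb_norm ho1, one_smul]
    have hs : a * T = (-(4⁻¹ : F)) • E + (-(40⁻¹ : F)) • Ω := by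
      have h22 : fv e r2 * fv e r2 = 1 := by rw [R.fv_sq, R.orb_norm ho2, one_smul]
      rw [hTdef, hr1e, sub_mul, smul_mul_assoc, h22, hr2e, hΩ]
      simp only [mul_add, mul_sub, mul_smul_comm, mul_one, hEE, hEa, hEa', haa', smul_neg, mul_neg, smul_smul]
      match_scalars <;> field_simp <;> ring
    obtain ⟨z, ⟨n, hzn⟩, hzM, hzz, hns, haz, -⟩ := R.toQuad.exists_central (R.mem 0) hT (R.sq 0) hTT
    -- the span of `1, E, Ω, aN` is closed under the product
    have hclos : ∀ k : ℕ, ∃ c0 c1 c2 c3 : F,
        (a * T) ^ k = c0 • (1 : MS) + c1 • E + c2 • Ω + c3 • (a * N) := by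
      intro k
      induction k with
      | zero => exact ⟨1, 0, 0, 0, by simp⟩
      | succ k ih =>
        obtain ⟨c0, c1, c2, c3, h⟩ := ih
        refine ⟨10 * c1 * -4⁻¹ + c2 * -600 * -40⁻¹, c0 * -4⁻¹ + c3 * 60 * -40⁻¹,
          c0 * -40⁻¹ + c3 * -1 * -4⁻¹, c2 * -10 * -4⁻¹ + c1 * -10 * -40⁻¹, ?_⟩
        rw [pow_succ, h, hs, hΩ]
        simp only [add_mul, mul_add, smul_mul_assoc, mul_smul_comm, smul_smul, one_mul, mul_one, mul_assoc, hEE, hNN, hE',
          hN', hEN, hEN', hEa, hEa', hNa, hNa', haa, haa', mul_neg, neg_mul, neg_neg, smul_neg]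
        match_scalars <;> ring
    obtain ⟨c0, c1, c2, c3, hz⟩ := hclos n
    rw [← hzn] at hz
    have hF0 := hF e R
    have h600 : (600 : F) ≠ 0 := by
      rw [show (600 : F) = 2 * 2 * 2 * 3 * 5 * 5 by norm_num]
      simp [h2, h3, h5']
    have hΩΩ : Ω * Ω = -(600 : F) • (1 : MS) := by
      rw [hΩ]
      simp only [mul_assoc, mul_smul_comm, smul_smul, mul_one, hEE, hNN, hE', hN', hEN, hEN', hEa', hNa', haa', haa,
        mul_neg, neg_mul, neg_neg, smul_neg]
      match_scalars <;> ring
    have hΩns : ∀ d : F, Ω ≠ d • 1 := by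
      intro d hd
      have h' := hadjΩ
      rw [hd, adjS_smul, adjS_one] at h'
      have h'' : (2 : F) * d = 0 := by
        have := congrFun (congrFun h' (Sum.inl 0)) (Sum.inl 0)
        simp at this
        linear_combination this
      rw [hd, (mul_eq_zero.1 h'').resolve_left h2, zero_smul, zero_mul] at hΩΩ
      simpa [h600] using congrFun (congrFun hΩΩ (Sum.inl 0)) (Sum.inl 0)
    have hpoly : ∀ t : F, Leg t → t ^ 2 * (t ^ 2 - 1) * (t ^ 2 - 2) * (t ^ 4 - 3 * t ^ 2 + 1) = 0 := by
      rintro t (h' | h' | h' | ⟨-, h'⟩) <;> simp [h']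
    have hdvd : ∀ n : ℕ, (n : F) = 0 → p ∣ n := fun n h => (CharP.cast_eq_zero_iff F p n).1 h
    have hcomm_Ω : a * Ω = Ω * a := by
      rw [hΩ]
      simp only [mul_assoc, hNa, hEa', mul_neg, neg_neg, haa']
    have hanti_E : a * E = -(E * a) := by rw [hEa, neg_neg]
    have hcases : (c1 = 0 ∧ c3 = 0) ∨ (c0 = 0 ∧ c2 = 0) := by
      have hl : a * z = (c0 • (1 : MS) + c2 • Ω - c1 • E - c3 • (a * N)) * a := by
        rw [hz]
        simp only [mul_add, add_mul, sub_mul, mul_smul_comm, smul_mul_assoc, mul_one, one_mul, hcomm_Ω, hanti_E,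
          mul_assoc, hNa, mul_neg, smul_neg, haa']
        abel
      have hcancel : ∀ X Y : MS, X * a = Y * a → X = Y := fun X Y h => by
        simpa [mul_assoc, haa] using congrArg (· * a) h
      have hadj' : ∀ x y : F, x • E + y • (a * N) = 0 → x = 0 ∧ y = 0 := by
        intro x y h
        have h1 := congrArg adjS h
        rw [adjS_add, adjS_smul, adjS_smul, adjS_mul, hadjE, hadja, hadjN, adjS_zero, hNa] at h1
        have hx : ((2 : F) * x) • E = 0 := by linear_combination (norm := module) h + h1
        have hy : ((2 : F) * y) • (a * N) = 0 := by linear_combination (norm := module) h - h1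
        constructor
        · by_contra hx0
          have hE0 := (smul_eq_zero.1 hx).resolve_left (mul_ne_zero h2 hx0)
          rw [hE0, zero_mul] at hEE
          have h0 := congrFun (congrFun hEE (Sum.inl 0)) (Sum.inl 0)
          simp at h0
          exact h10 h0.symm
        · by_contra hy0
          have hN0 := (smul_eq_zero.1 hy).resolve_left (mul_ne_zero h2 hy0)
          have : N = 0 := by rw [← haa' N, hN0, mul_zero]
          rw [this, zero_mul] at hNN
          have h60 : (60 : F) ≠ 0 := by
            rw [show (60 : F) = 2 * 2 * 3 * 5 by norm_num]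
            simp [h2, h3, h5']
          have h0 := congrFun (congrFun hNN (Sum.inl 0)) (Sum.inl 0)
          simp at h0
          exact h60 h0.symm
      rcases haz with h | h
      · left
        have h' := hcancel _ _ (hl.symm.trans h)
        rw [hz] at h'
        obtain ⟨hx, hy⟩ := hadj' (2 * c1) (2 * c3) (by linear_combination (norm := module) -h')
        exact ⟨(mul_eq_zero.1 hx).resolve_left h2, (mul_eq_zero.1 hy).resolve_left h2⟩
      · right
        have h' := hcancel _ _ (hl.symm.trans (h.trans (neg_mul z a).symm))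
        rw [hz] at h'
        have h'' : c0 • (1 : MS) + c2 • Ω = 0 := by
          have h''' : (2 : F) • (c0 • (1 : MS) + c2 • Ω) = 0 := by linear_combination (norm := module) h'
          exact (smul_eq_zero.1 h''').resolve_left h2
        by_cases hc2 : c2 = 0
        · refine ⟨?_, hc2⟩
          rw [hc2, zero_smul, add_zero] at h''
          simpa using congrFun (congrFun h'' (Sum.inl 0)) (Sum.inl 0)
        · refine absurd ?_ (hΩns (-c0 / c2))
          calc Ω = c2⁻¹ • (c2 • Ω) := by rw [smul_smul, inv_mul_cancel₀ hc2, one_smul]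
            _ = c2⁻¹ • (-(c0 • (1 : MS))) := by rw [eq_neg_of_add_eq_zero_right h'']
            _ = _ := by rw [smul_neg, smul_smul, neg_div, neg_smul]; congr 2; ring
    have hentry : ∀ x y : F, x • (1 : MS) = y • (1 : MS) → x = y := fun x y h => by
      simpa using congrFun (congrFun h (Sum.inl 0)) (Sum.inl 0)
    rcases hcases with ⟨e1z, e3z⟩ | ⟨e0z, e2z⟩
    · -- the product of all three
      rw [e1z, e3z, zero_smul, zero_smul, add_zero, add_zero] at hz
      have hc02 : c0 * c2 = 0 := by
        have hsq : z * z = (c0 * c0 - 600 * (c2 * c2)) • (1 : MS) + (2 * (c0 * c2)) • Ω := by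
          rw [hz]
          simp only [mul_add, add_mul, mul_smul_comm, smul_mul_assoc, mul_one, one_mul, hΩΩ, smul_smul]
          module
        by_contra hne0
        have h22 : (2 : F) * (c0 * c2) ≠ 0 := mul_ne_zero h2 hne0
        have hkey : ∀ x : F, z * z = x • (1 : MS) → False := fun x h => by
          rw [hsq] at h
          refine hΩns ((2 * (c0 * c2))⁻¹ * (x - (c0 * c0 - 600 * (c2 * c2)))) ?_
          have hk : (2 * (c0 * c2)) • Ω = (x - (c0 * c0 - 600 * (c2 * c2))) • (1 : MS) := by
            linear_combination (norm := module) h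
          rw [← smul_smul, ← hk, smul_smul, inv_mul_cancel₀ h22, one_smul]
        rcases hzz with h | h
        · exact hkey 1 (by rw [h, one_smul])
        · exact hkey (-1) (by rw [h, neg_one_smul])
      have hc0 : c0 = 0 := by
        rcases mul_eq_zero.1 hc02 with h | h
        · exact h
        · exact absurd (by rw [hz, h, zero_smul, add_zero]) (hns c0)
      rw [hc0, zero_smul, zero_add] at hz
      have hc : c2 * c2 * 600 = 1 := hentry _ _ (by
        have h := R.adj_mul hzM
        rw [hz, adjS_smul, hadjΩ, smul_mul_smul_comm, neg_mul, hΩΩ] at h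
        rw [one_smul]
        conv_rhs => rw [← h]
        module)
      have hzc : InC M e z := ⟨hzM, by rw [hz, smul_mul_assoc, mul_smul_comm, ← hadef, hcomm_Ω]⟩
      have hg := R.inC_mul hzc (R.inC_pair (i := 1) (j := 2) (by decide) (by decide))
      have hptr : ptr e (z * (e 1 * e 2)) = -20 * c2 := by
        have ha : ∀ i j : Fin 5, i ≠ j → ∀ X : MS, e i * (e j * X) = -(e j * (e i * X)) := fun i j h X => by
          rw [← mul_assoc, R.anti i j h, neg_mul, mul_assoc]
        have hs' : ∀ i (X : MS), e i * (e i * X) = X := fun i X => by rw [← mul_assoc, R.sq, one_mul]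
        have hptra : ∀ X : MS, X * a = a * X → ptr e (a * X) = ptr e X := fun X hX => by
          rw [ptr, ptr, ← hX, mul_assoc, hadef, R.e_mul_hp]
        have hEN12 : E * N * (e 1 * e 2) * a = a * (E * N * (e 1 * e 2)) := by
          have h12 : e 1 * e 2 * a = a * (e 1 * e 2) := (R.inC_pair (i := 1) (j := 2) (by decide) (by decide)).2
          have hEN0 : E * N * a = a * (E * N) := by
            rw [mul_assoc, hNa, mul_neg, ← mul_assoc, hEa, neg_mul, neg_neg, mul_assoc]
          rw [mul_assoc (E * N), h12, ← mul_assoc (E * N), hEN0, mul_assoc a]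
        rw [hz, smul_mul_assoc, R.ptr_smul, hΩ, mul_assoc a, hptra _ hEN12]
        have hEe : E = e 1 - (3 : F) • e 2 := by
          rw [hEdef]; simp [fv, Fin.sum_univ_five, sub_eq_add_neg]
        have hNe : N = (3 : F) • e 1 + e 2 + (5 : F) • e 3 + (5 : F) • e 4 := by
          rw [hNdef]; simp [fv, Fin.sum_univ_five]
        have hpp : ∀ i j : Fin 5, i ≠ 0 → j ≠ 0 → i ≠ j → ptr e (e i * e j) = 0 := fun i j => R.ptr_pair
        rw [hEe, hNe]
        simp only [mul_add, add_mul, mul_sub, sub_mul, smul_mul_assoc, mul_smul_comm, smul_smul, smul_add, smul_sub,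
          mul_assoc, R.sq, hs', mul_one, mul_neg, neg_neg, smul_neg, ha 2 1 (by decide), ha 3 1 (by decide),
          ha 4 1 (by decide), ha 3 2 (by decide), ha 4 2 (by decide), ha 4 3 (by decide), R.anti 2 1 (by decide),
          R.anti 3 1 (by decide), R.anti 4 1 (by decide), R.anti 3 2 (by decide), R.anti 4 2 (by decide),
          sub_eq_add_neg, neg_mul, one_mul, R.ptr_add, R.ptr_smul, R.ptr_neg, R.ptr_one, hpp 1 2 (by decide) (by decide) (by decide),
          hpp 1 3 (by decide) (by decide) (by decide), hpp 1 4 (by decide) (by decide) (by decide),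
          hpp 2 3 (by decide) (by decide) (by decide), hpp 2 4 (by decide) (by decide) (by decide),
          hpp 3 4 (by decide) (by decide) (by decide)]
        ring
      by_cases hsc : ∃ d : F, z * (e 1 * e 2) * hp e = d • hp e
      · obtain ⟨d, hd⟩ := hsc
        have h1 : ptr e (z * (e 1 * e 2)) = d * 2 := by
          rw [ptr, hd, Matrix.trace_smul, ← one_mul (hp e), ← ptr, R.ptr_one, smul_eq_mul]
        have h2' : hp e = (d * d) • hp e := by
          have h3' := congrArg adjS hd
          rw [adjS_mul, R.adjS_hp, adjS_smul, R.adjS_hp] at h3'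
          calc hp e = hp e * adjS (z * (e 1 * e 2)) * (z * (e 1 * e 2) * hp e) := by
                rw [mul_assoc, ← mul_assoc (adjS _), R.adj_mul hg.1, one_mul, R.hp_mul_hp]
            _ = _ := by rw [h3', hd, smul_mul_smul_comm, R.hp_mul_hp]
        have hdd : d * d = 1 := by
          have h3' := congrArg Matrix.trace h2'
          rw [Matrix.trace_smul, ← one_mul (hp e), ← ptr, R.ptr_one, smul_eq_mul] at h3'
          exact mul_right_cancel₀ h2 (by linear_combination -h3')
        have hd2 : (20 * c2) ^ 2 = 4 := by
          linear_combination (-20 * c2 + d * 2) * (h1.symm.trans hptr).symm * (1 : F) + 4 * hdd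
        have h2000 : ((2000 : ℕ) : F) = 0 := by push_cast; linear_combination -(600 : F) * hd2 + 400 * hc
        have := hdvd _ h2000
        have hfac : (2000 : ℕ) = 2 ^ 4 * 5 ^ 3 := by norm_num
        rw [hfac] at this
        rcases hpr.dvd_mul.1 this with h | h <;> have := Nat.le_of_dvd (by norm_num) (hpr.dvd_of_dvd_pow h) <;> omega
      · push Not at hsc
        have hleg := hpoly _ (hF0.leg _ hg hsc)
        rw [hptr] at hleg
        have hT2 : 3 * (-20 * c2) ^ 2 = 2 := by linear_combination (2 : F) * hc
        set t2 := (-20 * c2) ^ 2 with ht2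
        rw [show (-20 * c2) ^ 4 = t2 * t2 by rw [ht2]; ring] at hleg
        have hleg' : 3 * t2 * (3 * t2 - 3) * (3 * t2 - 6) * ((3 * t2) ^ 2 - 9 * (3 * t2) + 9) = 0 := by
          linear_combination (243 : F) * hleg
        rw [hT2] at hleg'
        have h40' : (40 : F) = 0 := by linear_combination -hleg'
        exact h40 h40'
    · rw [e0z, e2z, zero_smul, zero_smul, zero_add, add_zero] at hz
      have h60 : (60 : F) ≠ 0 := by
        rw [show (60 : F) = 2 * 2 * 3 * 5 by norm_num]
        simp [h2, h3, h5']
      have hEaN : E * (a * N) = -Ω ∧ a * N * E = -Ω := by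
        constructor
        · rw [hΩ, ← mul_assoc, hEa, neg_mul, mul_assoc]
        · rw [hΩ, mul_assoc, hEN, mul_neg]
      have hc13 : c1 = 0 ∨ c3 = 0 := by
        by_contra hne0
        push Not at hne0
        have h22 : (2 : F) * (c1 * c3) ≠ 0 := mul_ne_zero h2 (mul_ne_zero hne0.1 hne0.2)
        have hsq : z * z = (10 * (c1 * c1) - 60 * (c3 * c3)) • (1 : MS) - (2 * (c1 * c3)) • Ω := by
          have haN : a * N * (a * N) = -(60 : F) • (1 : MS) := by
            rw [mul_assoc, hNa', mul_neg, haa', hNN, neg_smul]
          rw [hz]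
          simp only [mul_add, add_mul, mul_smul_comm, smul_mul_assoc, smul_smul, hEE, hEaN.1, hEaN.2, haN, smul_neg]
          module
        have hkey : ∀ x : F, z * z = x • (1 : MS) → False := fun x h => by
          rw [hsq] at h
          refine hΩns ((2 * (c1 * c3))⁻¹ * (10 * (c1 * c1) - 60 * (c3 * c3) - x)) ?_
          have hk : (2 * (c1 * c3)) • Ω = (10 * (c1 * c1) - 60 * (c3 * c3) - x) • (1 : MS) := by
            linear_combination (norm := module) -h
          rw [← smul_smul, ← hk, smul_smul, inv_mul_cancel₀ h22, one_smul]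
        rcases hzz with h | h
        · exact hkey 1 (by rw [h, one_smul])
        · exact hkey (-1) (by rw [h, neg_one_smul])
      rcases hc13 with hc1 | hc3
      · -- the product of the first frame vector with the second component
        rw [hc1, zero_smul, zero_add] at hz
        have hc : c3 * c3 * 60 = 1 := hentry _ _ (by
          have h := R.adj_mul hzM
          rw [hz, adjS_smul, adjS_mul, hadja, hadjN, smul_mul_smul_comm, hNa, neg_mul, mul_assoc, hNa', mul_neg,
            neg_neg, haa', hNN, smul_smul] at h
          rw [one_smul]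
          exact h)
        have hza : ∀ k : Fin 5, k ≠ 0 → z * e k * a = a * (z * e k) := fun k hk => by
          rw [hz, smul_mul_assoc, smul_mul_assoc, mul_smul_comm]
          congr 1
          rw [mul_assoc (a * N), show e k * a = -(a * e k) from R.anti k 0 hk, mul_neg, mul_assoc a N, hNa', mul_neg,
            neg_neg, mul_assoc a N]
        have hNc : c3 • N = fv e (c3 • ![0, 3, 1, 5, 5]) := by rw [fv_smul, hNdef]
        have hghp : ∀ k : Fin 5, k ≠ 0 → z * e k * hp e = fv e (c3 • ![0, 3, 1, 5, 5]) * e k * hp e := fun k hk => by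
          rw [← hNc, hz]
          simp only [smul_mul_assoc]
          congr 1
          have hk0 : N * e k * a = a * (N * e k) := by
            rw [mul_assoc, show e k * a = -(a * e k) from R.anti k 0 hk, mul_neg, hNa', neg_neg]
          rw [mul_assoc a N, ← hk0, mul_assoc (N * e k), hadef, R.e_mul_hp]
        have hc30 : c3 ≠ 0 := fun h => by simp [h] at hc
        have l2 := hpoly _ (R.toQuad.leg_fv hF0 ⟨hzM.mul (R.mem 2), hza 2 (by decide)⟩
          (x := c3 • ![0, 3, 1, 5, 5]) (by simp) (k := 2) (l := 3) (by decide) (by decide) (by decide)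
          (by simp [hc30, h5']) (hghp 2 (by decide)))
        have l3 := hpoly _ (R.toQuad.leg_fv hF0 ⟨hzM.mul (R.mem 3), hza 3 (by decide)⟩
          (x := c3 • ![0, 3, 1, 5, 5]) (by simp) (k := 3) (l := 2) (by decide) (by decide) (by decide)
          (by simp [hc30]) (hghp 3 (by decide)))
        rw [show (2 : F) * (c3 • ![0, 3, 1, 5, 5] : Fin 5 → F) 2 = 2 * c3 by simp] at l2
        rw [show (2 : F) * (c3 • ![0, 3, 1, 5, 5] : Fin 5 → F) 3 = 10 * c3 by simp; ring] at l3
        have l2' : 15 * (4 * (c3 * c3)) * (15 * (4 * (c3 * c3)) - 15) * (15 * (4 * (c3 * c3)) - 30) *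
            ((15 * (4 * (c3 * c3))) ^ 2 - 45 * (15 * (4 * (c3 * c3))) + 225) = 0 := by
          linear_combination (759375 : F) * l2
        have l3' : 3 * (100 * (c3 * c3)) * (3 * (100 * (c3 * c3)) - 3) * (3 * (100 * (c3 * c3)) - 6) *
            ((3 * (100 * (c3 * c3))) ^ 2 - 9 * (3 * (100 * (c3 * c3))) + 9) = 0 := by
          linear_combination (243 : F) * l3
        rw [show 15 * (4 * (c3 * c3)) = (1 : F) by linear_combination hc] at l2'
        rw [show 3 * (100 * (c3 * c3)) = (5 : F) by linear_combination (5 : F) * hc] at l3'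
        have k2 : ((73486 : ℕ) : F) = 0 := by push_cast; linear_combination l2'
        have k3 : ((110 : ℕ) : F) = 0 := by push_cast; linear_combination l3'
        have := Nat.le_of_dvd (by norm_num) (Nat.dvd_gcd (hdvd _ k2) (hdvd _ k3))
        norm_num at this
        omega
      · -- the first component
        rw [hc3, zero_smul, add_zero] at hz
        have hc : c1 * c1 * 10 = 1 := hentry _ _ (by
          have h := R.adj_mul hzM
          rw [hz, adjS_smul, hadjE, smul_mul_smul_comm, hEE, smul_smul] at h
          rw [one_smul]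
          exact h)
        have hXM : InM M (fv e (c1 • ![0, 1, -3, 0, 0])) := by
          rw [fv_smul, ← hEdef, ← hz]
          exact hzM
        have hg := R.inC_fv_pair (y := Pi.single 1 1) (by simp) (by simp) hXM (by rw [hsingle]; exact R.mem 1)
        rw [hsingle] at hg
        have hc10 : c1 ≠ 0 := fun h => by simp [h] at hc
        have l1 := hpoly _ (R.toQuad.leg_fv hF0 hg (x := c1 • ![0, 1, -3, 0, 0]) (by simp) (k := 1) (l := 2) (by decide)
          (by decide) (by decide) (by simp [hc10, h3]) rfl)
        rw [show (2 : F) * (c1 • ![0, 1, -3, 0, 0] : Fin 5 → F) 1 = 2 * c1 by simp] at l1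
        have l1' : 5 * (4 * (c1 * c1)) * (5 * (4 * (c1 * c1)) - 5) * (5 * (4 * (c1 * c1)) - 10) *
            ((5 * (4 * (c1 * c1))) ^ 2 - 15 * (5 * (4 * (c1 * c1))) + 25) = 0 := by
          linear_combination (3125 : F) * l1
        rw [show 5 * (4 * (c1 * c1)) = (2 : F) by linear_combination (2 : F) * hc] at l1'
        have k : ((48 : ℕ) : F) = 0 := by push_cast; linear_combination -l1'
        have hd48 : p ∣ 2 ^ 4 * 3 := by simpa using hdvd _ k
        rcases hpr.dvd_mul.1 hd48 with h | h
        · have := Nat.le_of_dvd (by norm_num) (hpr.dvd_of_dvd_pow h); omega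
        · have := Nat.le_of_dvd (by norm_num) h; omega

end Fr

end H48.ExtraFour
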