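import Mathlib
import Cfsg.Agent.H48.ExtraFour.Halves

/-!
# Orbit vectors with a vanishing coordinate lie on the frame
-/

set_option autoImplicit false
set_option linter.unusedSectionVars false
set_option linter.style.haveILetI false

open Matrix
open H49 (adjS adjS_mul adjS_one adjS_add adjS_smul adjS_zero adjS_sub adjS_neg adjS_adjS)

namespace H48.ExtraFour

variable {F : Type*} [Field F]

local notation "MS" => Matrix (Fin 2 ⊕ Fin 2) (Fin 2 ⊕ Fin 2) F

/-- A vector on a coordinate axis. -/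
def AxisV (x : Fin 5 → F) : Prop := ∃ i, ∀ j, j ≠ i → x j = 0

/-- A vector with two coordinates of square one half. -/
def PairV (x : Fin 5 → F) : Prop :=
  ∃ k l, k ≠ l ∧ 2 * (x k * x k) = 1 ∧ 2 * (x l * x l) = 1 ∧ ∀ j, j ≠ k → j ≠ l → x j = 0

lemma not_axis_of_two {x : Fin 5 → F} {i j : Fin 5} (hij : i ≠ j) (hi : x i ≠ 0) (hj : x j ≠ 0) : ¬ AxisV x := by
  rintro ⟨k, hk⟩
  by_cases h : i = k
  · exact hj (hk j (h ▸ hij.symm))
  · exact hi (hk i h)

lemma not_pair_of_three {x : Fin 5 → F} {i j k : Fin 5} (hij : i ≠ j) (hik : i ≠ k) (hjk : j ≠ k) (hi : x i ≠ 0)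
    (hj : x j ≠ 0) (hk : x k ≠ 0) : ¬ PairV x := by
  rintro ⟨a, b, -, -, -, h⟩
  have hmem : ∀ m, x m ≠ 0 → m = a ∨ m = b := fun m hm => by
    by_contra hc
    push Not at hc
    exact hm (h m hc.1 hc.2)
  rcases hmem i hi with rfl | rfl <;> rcases hmem j hj with rfl | rfl <;> rcases hmem k hk with rfl | rfl <;>
    simp_all

set_option maxRecDepth 8000 in
set_option maxHeartbeats 1000000 in
/-- The shapes allowed for a vector with a zero first coordinate in the octahedral case. -/
lemma shape_dec : ∀ n : Fin 5 → Fin 3, n 0 = 0 →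
    (n 1).val + (n 2).val + (n 3).val + (n 4).val = 4 →
    (∀ k l : Fin 5, k ≠ 0 → l ≠ 0 → k ≠ l → (n k).val + (n l).val ≠ 3 ∧ (n k).val + (n l).val ≠ 1) →
    (∀ k : Fin 5, k ≠ 0 → (n k).val = 1) ∨
      ∃ k l : Fin 5, k ≠ l ∧ (n k).val = 2 ∧ (n l).val = 2 ∧ ∀ j, j ≠ k → j ≠ l → (n j).val = 0 := by
  decide

set_option maxRecDepth 8000 in
lemma exists_perm_zero : ∀ k l : Fin 5, k ≠ 0 → l ≠ 0 → k ≠ l →
    ∃ σ : Equiv.Perm (Fin 5), σ 0 = 0 ∧ σ 1 = k ∧ σ 2 = l := fun k l hk hl hkl =>
  ⟨(Equiv.swap 2 (Equiv.swap 1 k l)).trans (Equiv.swap 1 k), by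
    revert k l; decide, by revert k l; decide, by revert k l; decide⟩

set_option maxRecDepth 8000 in
lemma exists_perm_pair : ∀ k l : Fin 5, k ≠ l → ∃ σ : Equiv.Perm (Fin 5), σ 0 = k ∧ σ 1 = l := fun k l hkl =>
  ⟨(Equiv.swap 1 (Equiv.swap 0 k l)).trans (Equiv.swap 0 k), by revert k l; decide, by revert k l; decide⟩

set_option maxRecDepth 8000 in
set_option maxHeartbeats 1000000 in
lemma swap_dec : ∀ i k l m : Fin 5, i ≠ 0 → k ≠ 0 → l ≠ 0 → k ≠ i → l ≠ i → k ≠ 1 → l ≠ 1 →
    ((Equiv.swap k l (Equiv.swap 1 i m) = 0 ∨ Equiv.swap k l (Equiv.swap 1 i m) = 1) ↔ (m = 0 ∨ m = i)) := by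
  decide

lemma exists_ne_two : ∀ i : Fin 5, i ≠ 0 → ∃ m : Fin 5, m ≠ i ∧ m ≠ 0 := by decide

lemma exists_ne_three : ∀ l : Fin 5, l ≠ 0 → l ≠ 1 → ∃ m : Fin 5, m ≠ 0 ∧ m ≠ 1 ∧ m ≠ l := by decide

lemma exists_ne_of_three : ∀ a b c : Fin 5, ∃ d : Fin 5, d ≠ a ∧ d ≠ b ∧ d ≠ c := by decide

lemma exists_cover : ∀ m : Fin 5, m ≠ 0 → m ≠ 1 → m ≠ 2 → ∃ n : Fin 5, n ≠ 2 ∧ n ≠ m ∧ n ≠ 0 ∧ n ≠ 1 ∧
    ∀ b : Fin 5, b ≠ 0 → b ≠ 1 → b ≠ n → b = 2 ∨ b = m := by decide

lemma cc_apply (c : F) (a : Fin 5) :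
    (![c, c, 0, 0, 0] : Fin 5 → F) a = if a = 0 ∨ a = 1 then c else 0 := by
  fin_cases a <;> simp

variable {M : Subgroup (GL (Fin 2 ⊕ Fin 2) F)} {e : Fin 5 → Matrix (Fin 2 ⊕ Fin 2) (Fin 2 ⊕ Fin 2) F}

namespace Fr

variable (R : Fr M e)
include R

/-- Conjugating a frame by a member of `M` gives a frame. -/
theorem conj_fr {Y : MS} (hY : InM M Y) : Fr M (fun i => Y * e i * adjS Y) where
  toQuad := R.conj_fv_mem hY
  mono X hX h := by
    have h1 : InM M (adjS Y * X * Y) := by
      refine R.mono _ ?_ fun i => ?_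
      · rw [adjS_mul, adjS_mul, adjS_adjS]
        calc adjS Y * (adjS X * Y) * (adjS Y * X * Y) = adjS Y * (adjS X * (Y * adjS Y) * X) * Y := by
              simp only [mul_assoc]
          _ = 1 := by rw [R.mul_adj hY, mul_one, hX, mul_one, R.adj_mul hY]
      · obtain ⟨j, s, hj⟩ := h i
        refine ⟨j, s, ?_⟩
        rw [adjS_mul, adjS_mul, adjS_adjS]
        calc adjS Y * X * Y * e i * (adjS Y * (adjS X * Y)) = adjS Y * (X * (Y * e i * adjS Y) * adjS X) * Y := by
              simp only [mul_assoc]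
          _ = _ := by rw [hj, mul_smul_comm, smul_mul_assoc, R.conj_conj hY]
    have h2 := (hY.mul h1).mul (R.inM_adj hY)
    rwa [show Y * (adjS Y * X * Y) * adjS Y = Y * adjS Y * X * (Y * adjS Y) by simp only [mul_assoc], R.mul_adj hY,
      one_mul, mul_one] at h2

lemma cls_conj_iff {Y : MS} (hY : InM M Y) {X : MS} : Cls M (fun i => Y * e i * adjS Y) X ↔ Cls M e X := by
  constructor
  · rintro ⟨Z, hZ, rfl⟩
    exact ⟨Z * Y, hZ.mul hY, by rw [adjS_mul]; simp only [mul_assoc]⟩
  · rintro ⟨Z, hZ, rfl⟩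
    refine ⟨Z * adjS Y, hZ.mul (R.inM_adj hY), ?_⟩
    dsimp only
    rw [adjS_mul, adjS_adjS]
    conv_rhs => rw [← R.conj_conj hY (e 0)]
    simp only [mul_assoc]

/-- Four coordinates `±1/2` are impossible. -/
lemma no_half [Fintype F] {p : ℕ} [Fact p.Prime] [CharP F p] (hq : Fintype.card F = p) (h5 : 5 ≤ p)
    (hF : ∀ e' : Fin 5 → MS, Fr M e' → Facts M e') : ¬ HalfOrb M e := by
  rintro ⟨w, hw, hw0, hwk⟩
  set s : Fin 5 → F := fun i => if i = 0 then 1 else 2 * w i with hs
  have hss : ∀ i, s i * s i = 1 := by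
    intro i
    by_cases hi : i = 0
    · simp [hs, hi]
    · simp only [hs, if_neg hi]; linear_combination hwk i hi
  have h := R.orb_relabel (Equiv.refl _) s hss hw
  refine (R.relabel (Equiv.refl _) s hss).no_half_std hq h5 hF ?_
  convert h using 1
  funext i
  fin_cases i
  · simp [hw0]
  all_goals
    simp [hs]
    have h2 := R.two
    field_simp
  · linear_combination -(hwk 1 (by decide))
  · linear_combination -(hwk 2 (by decide))
  · linear_combination -(hwk 3 (by decide))
  · linear_combination -(hwk 4 (by decide))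

variable [Fintype F] {p : ℕ} [Fact p.Prime] [CharP F p]
  (hq : Fintype.card F = p) (h5 : 5 ≤ p)
  (hF : ∀ e' : Fin 5 → Matrix (Fin 2 ⊕ Fin 2) (Fin 2 ⊕ Fin 2) F, Fr M e' → Facts M e')
include hq h5 hF

lemma octa {X : MS} (hX : InC M e X) :
    (ptr e (X * qi e * adjS X * qi e) = 0 ∨ ptr e (X * qi e * adjS X * qi e) = 2 ∨
      ptr e (X * qi e * adjS X * qi e) = -2) ∧ ((∀ c : F, X * hp e ≠ c • hp e) → Leg4 (ptr e X)) :=
  ((hF e R).normal.resolve_right (R.no_half hq h5 hF)) X hX

/-- The sum of the squares of the coordinates one and two. -/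
lemma pair_sum {x : Fin 5 → F} (hx : InM M (fv e x)) (h0 : x 0 = 0) :
    x 1 * x 1 + x 2 * x 2 = 0 ∨ 2 * (x 1 * x 1 + x 2 * x 2) = 1 ∨ x 1 * x 1 + x 2 * x 2 = 1 := by
  have hX := R.inC_fv_pair (y := Pi.single 1 1) h0 (by simp) hx (by rw [fv_single, one_smul]; exact R.mem 1)
  rw [fv_single, one_smul] at hX
  have a : ∀ i j : Fin 5, i ≠ j → ∀ W : MS, e i * (e j * W) = -(e j * (e i * W)) := fun i j h W => by
    rw [← mul_assoc, R.anti i j h, neg_mul, mul_assoc]
  have s : ∀ i (W : MS), e i * (e i * W) = W := fun i W => by rw [← mul_assoc, R.sq, one_mul]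
  set U := fv e x with hU
  have hUe : ∀ i, e i * U = (2 * x i) • (1 : MS) - U * e i := fun i => by
    have := R.anticomm x (Pi.single i 1)
    rw [fv_single, one_smul, dotProduct_single, mul_one] at this
    exact eq_sub_of_add_eq' this
  have hUU : U * U = 1 := by rw [hU, R.fv_sq, R.inM_fv_norm hx, one_smul]
  have hkey : ptr e (U * e 1 * qi e * adjS (U * e 1) * qi e) = 2 - 4 * (x 1 * x 1 + x 2 * x 2) := by
    have h1 : U * e 1 * qi e * adjS (U * e 1) * qi e = U * (e 2 * (e 1 * U)) * (e 1 * e 2) := by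
      rw [adjS_mul, R.adj, R.adjS_fv, qi]
      simp only [mul_assoc, s, hU]
    have h2 : U * (e 2 * (e 1 * U)) * (e 1 * e 2) =
        (1 : MS) - (2 * x 1) • (U * e 1) - (2 * x 2) • (U * e 2) := by
      have e21 : ∀ W : MS, U * (U * W) = W := fun W => by rw [← mul_assoc, hUU, one_mul]
      rw [hUe 1]
      simp only [mul_sub, mul_smul_comm, mul_one, sub_mul, smul_mul_assoc]
      rw [← mul_assoc (e 2), hUe 2]
      simp only [sub_mul, smul_mul_assoc, one_mul, mul_sub, mul_smul_comm, mul_assoc, s, e21, smul_sub, smul_smul,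
        a 2 1 (by decide), mul_neg, neg_mul, smul_neg, R.sq, mul_one, neg_neg, hUU, R.anti 2 1 (by decide)]
      match_scalars <;> ring
    rw [h1, h2, sub_eq_add_neg, sub_eq_add_neg, R.ptr_add, R.ptr_add, R.ptr_neg, R.ptr_neg, R.ptr_smul,
      R.ptr_smul, R.ptr_fv_e h0 (by decide), R.ptr_fv_e h0 (by decide), R.ptr_one]
    ring
  rcases (R.octa hq h5 hF hX).1 with h | h | h <;> rw [hkey] at h
  · right; left
    exact mul_left_cancel₀ R.two (by linear_combination -h)
  · left
    exact mul_left_cancel₀ R.four (by linear_combination -h)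
  · right; right
    exact mul_left_cancel₀ R.four (by linear_combination -h)

/-- A member of `M` in the five-space with a vanishing first coordinate. -/
lemma zero_first {x : Fin 5 → F} (hx : InM M (fv e x)) (h0 : x 0 = 0) : AxisV x ∨ PairV x := by
  classical
  have hne : ∀ n : ℕ, 0 < n → n < p → (n : F) ≠ 0 := fun n h0 hn =>
    natCast_ne_zero_of_mod (p := p) fun h => by have := Nat.le_of_dvd h0 h; omega
  have hnorm : x 1 * x 1 + x 2 * x 2 + x 3 * x 3 + x 4 * x 4 = 1 := by
    have := R.inM_fv_norm hx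
    simp [dotProduct, Fin.sum_univ_five, h0] at this
    linear_combination this
  by_cases hax : AxisV x
  · exact Or.inl hax
  have hs : ∀ k : Fin 5, k ≠ 0 → ∃ n : Fin 3, (n.val : F) = 4 * (x k * x k) := by
    intro k hk
    have hXk := R.inC_fv_pair (y := Pi.single k 1) h0 (by simp [Pi.single_eq_of_ne (Ne.symm hk)]) hx
      (by rw [fv_single, one_smul]; exact R.mem k)
    rw [fv_single, one_smul] at hXk
    have hns : ∀ c : F, fv e x * e k * hp e ≠ c • hp e := fun c hc => hax ⟨k, fun j hj => by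
      by_cases hj0 : j = 0
      · rw [hj0]; exact h0
      · exact R.coord_of_scalar h0 hk hc hj0 hj⟩
    have h := (R.octa hq h5 hF hXk).2 hns
    rw [R.ptr_fv_e h0 hk] at h
    rcases h with h | h | h
    · exact ⟨0, by simp [(mul_eq_zero.1 h).resolve_left R.two]⟩
    · exact ⟨1, by simp; linear_combination -h⟩
    · exact ⟨2, by simp; linear_combination -h⟩
  have hn : ∀ k : Fin 5, ∃ n : Fin 3, (n.val : F) = 4 * (x k * x k) := fun k => by
    by_cases hk : k = 0
    · exact ⟨0, by simp [hk, h0]⟩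
    · exact hs k hk
  choose n hn using hn
  have hn0 : n 0 = 0 := by
    have h := hn 0
    rw [h0, mul_zero, mul_zero] at h
    by_contra hne0
    exact hne _ (Fin.pos_iff_ne_zero.2 hne0) (by have := (n 0).isLt; omega) h
  have hpair : ∀ k l : Fin 5, k ≠ 0 → l ≠ 0 → k ≠ l →
      x k * x k + x l * x l = 0 ∨ 2 * (x k * x k + x l * x l) = 1 ∨ x k * x k + x l * x l = 1 := by
    intro k l hk hl hkl
    obtain ⟨σ, hσ0, hσ1, hσ2⟩ := exists_perm_zero k l hk hl hkl
    have hs1 : ∀ _i : Fin 5, (1 : F) * 1 = 1 := fun _ => one_mul 1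
    have h := (R.relabel σ (fun _ => 1) hs1).pair_sum hq h5 hF (x := fun i => 1 * x (σ i))
      (by rw [R.fv_relabel σ (fun _ => 1) hs1 x]; exact hx) (by rw [hσ0, h0, mul_zero])
    simpa [hσ1, hσ2] using h
  have hsum : (n 1).val + (n 2).val + (n 3).val + (n 4).val = 4 := by
    have h1 := (n 1).isLt
    have h2 := (n 2).isLt
    have h3 := (n 3).isLt
    have h4 := (n 4).isLt
    have hF4 : (((n 1).val + (n 2).val + (n 3).val + (n 4).val : ℕ) : F) = ((4 : ℕ) : F) := by
      push_cast
      rw [hn 1, hn 2, hn 3, hn 4]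
      linear_combination (4 : F) * hnorm
    by_contra hne4
    rcases Nat.lt_or_gt_of_ne hne4 with hlt | hgt
    · exact hne (4 - ((n 1).val + (n 2).val + (n 3).val + (n 4).val)) (by omega) (by omega)
        (by rw [Nat.cast_sub (by omega), hF4, sub_self])
    · exact hne ((n 1).val + (n 2).val + (n 3).val + (n 4).val - 4) (by omega) (by omega)
        (by rw [Nat.cast_sub (by omega), hF4, sub_self])
  have hodd : ∀ k l : Fin 5, k ≠ 0 → l ≠ 0 → k ≠ l →
      (n k).val + (n l).val ≠ 3 ∧ (n k).val + (n l).val ≠ 1 := by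
    intro k l hk hl hkl
    have hc : (((n k).val + (n l).val : ℕ) : F) = 4 * (x k * x k + x l * x l) := by
      push_cast; rw [hn k, hn l]; ring
    have hv : (((n k).val + (n l).val : ℕ) : F) = 0 ∨ (((n k).val + (n l).val : ℕ) : F) = 2 ∨
        (((n k).val + (n l).val : ℕ) : F) = 4 := by
      rcases hpair k l hk hl hkl with h | h | h
      · left; rw [hc, h, mul_zero]
      · right; left; rw [hc]; linear_combination (2 : F) * h
      · right; right; rw [hc, h, mul_one]
    have h3 : ((3 : ℕ) : F) ≠ 0 := hne 3 (by norm_num) (by omega)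
    have h1' : ((1 : ℕ) : F) ≠ 0 := hne 1 (by norm_num) (by omega)
    constructor <;> intro h <;> rw [h] at hv <;> push_cast at hv h3 h1' <;> rcases hv with h | h | h
    exacts [h3 h, h1' (by linear_combination h), h1' (by linear_combination -h), h1' h,
      h1' (by linear_combination -h), h3 (by linear_combination -h)]
  rcases shape_dec n hn0 hsum hodd with hall | ⟨k, l, hkl, hk, hl, hrest⟩
  · exfalso
    apply R.no_half hq h5 hF
    refine ⟨(2 * (x ⬝ᵥ Pi.single 1 1)) • x - Pi.single 1 1, ?_, by simp [h0], fun k hk => ?_⟩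
    · have h := R.cls_conj (R.cls_e 1) hx
      rw [← one_smul F (e 1), ← fv_single, R.adjS_fv, R.fv_conj, R.inM_fv_norm hx, one_smul] at h
      exact h
    · have hq1 : ∀ k : Fin 5, k ≠ 0 → 4 * (x k * x k) = 1 := fun k hk => by rw [← hn k, hall k hk]; simp
      by_cases hk1 : k = 1
      · subst hk1
        simp
        linear_combination ((4 : F) * (x 1 * x 1) - 3) * hq1 1 (by decide)
      · simp [Pi.single_eq_of_ne hk1]
        linear_combination (4 : F) * (x 1 * x 1) * hq1 k hk + hq1 1 (by decide)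
  · refine Or.inr ⟨k, l, hkl, ?_, ?_, fun j hj hj' => ?_⟩
    · have := hn k
      rw [hk] at this
      exact mul_left_cancel₀ R.two (by push_cast at this; linear_combination -this)
    · have := hn l
      rw [hl] at this
      exact mul_left_cancel₀ R.two (by push_cast at this; linear_combination -this)
    · have := hn j
      rw [hrest j hj hj', Nat.cast_zero] at this
      rcases mul_eq_zero.1 this.symm with h | h
      · exact absurd h R.four
      · exact mul_self_eq_zero.1 h

/-- A member of `M` in the five-space with some vanishing coordinate. -/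
lemma zero_any {x : Fin 5 → F} (hx : InM M (fv e x)) {i : Fin 5} (hi : x i = 0) : AxisV x ∨ PairV x := by
  have hs1 : ∀ _i : Fin 5, (1 : F) * 1 = 1 := fun _ => one_mul 1
  have h := (R.relabel (Equiv.swap 0 i) (fun _ => 1) hs1).zero_first hq h5 hF
    (x := fun j => 1 * x (Equiv.swap 0 i j)) (by rw [R.fv_relabel _ _ hs1 x]; exact hx) (by simp [hi])
  rcases h with ⟨k, hk⟩ | ⟨k, l, hkl, hk, hl, hrest⟩
  · refine Or.inl ⟨Equiv.swap 0 i k, fun j hj => ?_⟩
    have := hk (Equiv.swap 0 i j) fun h => hj (by rw [← h, Equiv.swap_apply_self])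
    simpa using this
  · refine Or.inr ⟨Equiv.swap 0 i k, Equiv.swap 0 i l, (Equiv.injective _).ne hkl, by simpa using hk,
      by simpa using hl, fun j hj hj' => ?_⟩
    have := hrest (Equiv.swap 0 i j) (fun h => hj (by rw [← h, Equiv.swap_apply_self]))
      (fun h => hj' (by rw [← h, Equiv.swap_apply_self]))
    simpa using this

/-- Two equal coordinates `1/√2` are impossible in the orbit. -/
lemma no_pair_std {c : F} (hc : 2 * (c * c) = 1) (hu : Orb M e ![c, c, 0, 0, 0]) : False := by
  classical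
  have hc0 : c ≠ 0 := fun h => by simp [h] at hc
  have h2 := R.two
  obtain ⟨Y, hY, hYu⟩ := hu
  set f : Fin 5 → MS := fun i => Y * e i * adjS Y with hf
  have Rf : Fr M f := R.conj_fr hY
  set u : Fin 5 → F := ![c, c, 0, 0, 0] with hu'
  have hu : Orb M e u := ⟨Y, hY, hYu⟩
  have hf0 : f 0 = fv e u := hYu
  have tr : ∀ z : Fin 5 → F, Orb M f z → ∃ w, Orb M e w ∧ fv f z = fv e w := fun z hz => by
    have h : Cls M e (fv f z) := (R.cls_conj_iff hY).1 hz
    obtain ⟨w, hw⟩ := R.cls_exists h
    exact ⟨w, by show Cls M e _; rw [← hw]; exact h, hw⟩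
  -- all pairs on the first coordinate
  have hpairs : ∀ i : Fin 5, i ≠ 0 → ∀ t : F, t * t = 1 →
      Orb M f (Pi.single 0 c + Pi.single i (t * c)) := by
    intro i hi t ht
    have h0 : Orb M e (Pi.single 0 c + Pi.single i c) := by
      by_cases hi1 : i = 1
      · subst hi1
        convert hu using 1
        funext m
        fin_cases m <;> simp [hu']
      · obtain ⟨k, l, hkl, hk0, hl0, hki, hli, hk1, hl1⟩ :
            ∃ k l : Fin 5, k ≠ l ∧ k ≠ 0 ∧ l ≠ 0 ∧ k ≠ i ∧ l ≠ i ∧ k ≠ 1 ∧ l ≠ 1 := by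
          revert hi hi1; revert i; decide
        have h := R.orb_dt hu (i := 1) (j := i) (k := k) (l := l) (Ne.symm hi1) hkl
        convert h using 1
        funext m
        rw [swap2, hu', cc_apply, if_congr (swap_dec i k l m hi hk0 hl0 hki hli hk1 hl1) rfl rfl]
        by_cases hm0 : m = 0
        · subst hm0; simp [Pi.single_eq_of_ne (Ne.symm hi)]
        · by_cases hmi : m = i
          · subst hmi; simp [Pi.single_eq_of_ne hi]
          · simp [hm0, hmi]
    have h1 : Orb M e (Pi.single 0 c + Pi.single i (t * c)) := by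
      rcases mul_self_eq_one_iff.1 ht with rfl | rfl
      · rwa [one_mul]
      · obtain ⟨m, hmi, hm0⟩ := exists_ne_two i hi
        have h := R.orb_flip h0 (Ne.symm hmi)
        convert h using 1
        funext j
        by_cases hj : j = i
        · subst hj; simp [flip2, Pi.single_eq_of_ne hi]
        · by_cases hjm : j = m
          · subst hjm; simp [flip2, Pi.single_eq_of_ne hm0, Pi.single_eq_of_ne hj]
          · simp [flip2, hj, hjm]
    show Cls M f _
    rw [R.cls_conj_iff hY, hf, ← conj_fv]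
    exact R.cls_conj h1 hY
  have key : ∀ l : Fin 5, l ≠ 0 → l ≠ 1 → ∃ i m : Fin 5, i ≠ 0 ∧ m ≠ 0 ∧ m ≠ 1 ∧ m ≠ l ∧
      ∃ y : Fin 5 → F, f i = fv e y ∧ y l ≠ 0 ∧ y m ≠ 0 ∧ ∀ j, j ≠ l → j ≠ m → y j = 0 := by
    intro l hl0 hl1
    have hel : Cls M f (e l) := (R.cls_conj_iff hY).2 (R.cls_e l)
    obtain ⟨z, hz⟩ := Rf.cls_exists hel
    have hzO : Orb M f z := by show Cls M f _; rw [← hz]; exact hel
    have hul : ∀ y : Fin 5 → F, fv f (Pi.single 0 1) * fv f y + fv f y * fv f (Pi.single 0 1) =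
        fv e u * fv f y + fv f y * fv e u := fun y => by rw [fv_single, one_smul, hf0]
    have hcoord : ∀ (y w : Fin 5 → F), fv f y = fv e w → y 0 = u ⬝ᵥ w := fun y w h => by
      have h1 := hul y
      rw [Rf.anticomm, h, R.anticomm, single_dotProduct, one_mul] at h1
      have h3 := congrFun (congrFun h1 (Sum.inl 0)) (Sum.inl 0)
      simp at h3
      exact h3.resolve_right h2
    have hz0 : z 0 = 0 := by
      rw [hcoord z (Pi.single l 1) (by rw [← hz, fv_single, one_smul])]
      fin_cases l <;> simp [hu'] at *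
    have hzn := Rf.orb_norm hzO
    rcases Rf.zero_first hq h5 hF (Rf.orb_inM hzO) hz0 with ⟨i, hi⟩ | ⟨i, j, hij, hzi, hzj, hrest⟩
    · exfalso
      have hzi : z i * z i = 1 := by
        rw [dotProduct, Finset.sum_eq_single i (fun b _ hb => by rw [hi b hb, zero_mul]) (by simp)] at hzn
        exact hzn
      have hi0 : i ≠ 0 := fun h => by subst h; rw [hz0, mul_zero] at hzi; exact zero_ne_one hzi
      have hzs : z = Pi.single i (z i) := by
        funext b
        by_cases hb : b = i
        · subst hb; simp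
        · simp [Pi.single_eq_of_ne hb, hi b hb]
      obtain ⟨w, hw, hwv⟩ := tr _ (hpairs i hi0 (z i) hzi)
      have hwe : w = c • u + c • Pi.single l 1 := by
        apply R.fv_inj
        rw [← hwv, fv_add, fv_add, fv_smul, fv_smul, fv_single e l, one_smul, fv_single f 0, ← hf0, hz, hzs,
          fv_single, fv_single, Pi.single_eq_same, smul_smul, mul_comm c (z i)]
      have hm := exists_ne_three l hl0 hl1
      obtain ⟨m, hm0, hm1, hml⟩ := hm
      have hu2 : ∀ j : Fin 5, j ≠ 0 → j ≠ 1 → u j = 0 := fun j h0 h1 => by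
        fin_cases j <;> simp [hu'] at *
      have hwm : w m = 0 := by simp [hwe, hu2 m hm0 hm1, Pi.single_eq_of_ne hml]
      have hw0' : w 0 ≠ 0 := by
        rw [hwe, Pi.add_apply, Pi.smul_apply, Pi.smul_apply, hu', cc_apply, Pi.single_eq_of_ne (Ne.symm hl0)]
        simp [hc0]
      have hw1' : w 1 ≠ 0 := by
        rw [hwe, Pi.add_apply, Pi.smul_apply, Pi.smul_apply, hu', cc_apply, Pi.single_eq_of_ne (Ne.symm hl1)]
        simp [hc0]
      have hwl' : w l ≠ 0 := by simp [hwe, hu2 l hl0 hl1, hc0]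
      rcases R.zero_any hq h5 hF (R.orb_inM hw) hwm with h | h
      · exact not_axis_of_two (by decide) hw0' hw1' h
      · exact not_pair_of_three (by decide) (Ne.symm hl0) (Ne.symm hl1) hw0' hw1' hwl' h
    · have hzi0 : z i ≠ 0 := fun h => by simp [h] at hzi
      have hzj0 : z j ≠ 0 := fun h => by simp [h] at hzj
      have hi0 : i ≠ 0 := fun h => hzi0 (h ▸ hz0)
      have hj0 : j ≠ 0 := fun h => hzj0 (h ▸ hz0)
      have hzO' := Rf.orb_flip hzO hj0
      obtain ⟨w, hw, hwv⟩ := tr _ hzO'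
      have hzz : ∀ y : Fin 5 → F, z ⬝ᵥ y = z i * y i + z j * y j := fun y => by
        rw [dotProduct, ← Finset.sum_pair (f := fun b => z b * y b) hij]
        refine (Finset.sum_subset (Finset.subset_univ _) fun b _ hb => ?_).symm
        simp only [Finset.mem_insert, Finset.mem_singleton, not_or] at hb
        rw [hrest b hb.1 hb.2, zero_mul]
      have hwl : w l = 0 := by
        have hh := R.anticomm (Pi.single l 1) w
        rw [fv_single, one_smul, ← hwv, hz, Rf.anticomm, hzz, single_dotProduct, one_mul] at hh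
        have h3 := congrFun (congrFun hh (Sum.inl 0)) (Sum.inl 0)
        simp [flip2, hij, hi0] at h3
        exact mul_left_cancel₀ h2 (by linear_combination (-2 : F) * h3.resolve_right h2 - hzj + hzi)
      have hwu : c * (w 0 + w 1) = 0 := by
        have := hcoord _ w hwv
        simp [flip2, hz0, hu', dotProduct, Fin.sum_univ_five] at this
        linear_combination -this
      have hfi : ∀ y : Fin 5 → F, y = (2 * z i)⁻¹ • (Pi.single l 1 + w) → f i = fv e y := fun y hy => by
        rw [hy, fv_smul, fv_add, fv_single, one_smul, ← hwv, hz, ← fv_add, ← fv_smul, ← one_smul F (f i), ← fv_single]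
        congr 1
        funext b
        by_cases hb : b = i
        · subst hb
          simp [flip2, hij, hi0]
          field_simp
          ring
        · by_cases hbj : b = j
          · subst hbj
            simp [flip2, Pi.single_eq_of_ne hb]
          · simp [flip2, hrest b hb hbj, Pi.single_eq_of_ne hb]
      have hk : (2 * z i)⁻¹ ≠ 0 := inv_ne_zero (mul_ne_zero h2 hzi0)
      rcases R.zero_any hq h5 hF (R.orb_inM hw) hwl with ⟨m, hm⟩ | ⟨k1, k2, hk12, hk1, hk2, hkr⟩
      · have hwm : w m ≠ 0 := fun h => by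
          have hn := R.orb_norm hw
          rw [dotProduct, Finset.sum_eq_zero fun b _ => ?_] at hn
          · exact zero_ne_one hn
          · by_cases hb : b = m
            · rw [hb, h, zero_mul]
            · rw [hm b hb, zero_mul]
        have hml : m ≠ l := fun h => hwm (h ▸ hwl)
        have hm0 : m ≠ 0 := fun h => by
          subst h
          rw [hm 1 (by decide), add_zero] at hwu
          exact hwm ((mul_eq_zero.1 hwu).resolve_left hc0)
        have hm1 : m ≠ 1 := fun h => by
          subst h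
          rw [hm 0 (by decide), zero_add] at hwu
          exact hwm ((mul_eq_zero.1 hwu).resolve_left hc0)
        refine ⟨i, m, hi0, hm0, hm1, hml, _, hfi _ rfl, ?_, ?_, fun b hb hb' => ?_⟩
        · simp [hwl, h2, hzi0]
        · simp [Pi.single_eq_of_ne hml, hwm, h2, hzi0]
        · simp [Pi.single_eq_of_ne hb, hm b hb']
      · exfalso
        set y : Fin 5 → F := (2 * z i)⁻¹ • (Pi.single l 1 + w) with hy
        have hyO : Orb M e y := by
          show Cls M e _
          rw [← hfi y rfl, ← R.cls_conj_iff hY]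
          exact Rf.cls_e i
        have hw1 : w k1 ≠ 0 := fun h => by simp [h] at hk1
        have hw2 : w k2 ≠ 0 := fun h => by simp [h] at hk2
        have hkl1 : k1 ≠ l := fun h => hw1 (h ▸ hwl)
        have hkl2 : k2 ≠ l := fun h => hw2 (h ▸ hwl)
        obtain ⟨b, hb1, hb2, hbl⟩ := exists_ne_of_three k1 k2 l
        have hyb : y b = 0 := by simp [hy, Pi.single_eq_of_ne hbl, hkr b hb1 hb2]
        have y1 : y k1 ≠ 0 := by simp [hy, Pi.single_eq_of_ne hkl1, hw1, h2, hzi0]
        have y2 : y k2 ≠ 0 := by simp [hy, Pi.single_eq_of_ne hkl2, hw2, h2, hzi0]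
        have yl : y l ≠ 0 := by simp [hy, hwl, h2, hzi0]
        rcases R.zero_any hq h5 hF (R.orb_inM hyO) hyb with h | h
        · exact not_axis_of_two hk12 y1 y2 h
        · exact not_pair_of_three hk12 hkl1 hkl2 y1 y2 yl h
  -- two such frame vectors would have an impossible product
  obtain ⟨i, m, hi0, hm0, hm1, hm2, y, hy, hy2, hym, hyr⟩ := key 2 (by decide) (by decide)
  obtain ⟨n, hn2, hnm, hn0, hn1, hcover⟩ := exists_cover m hm0 hm1 hm2
  obtain ⟨i', m', hi0', hm0', hm1', hmn', y', hy', hyn', hym', hyr'⟩ := key n hn0 hn1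
  have hdot : y ⬝ᵥ y' = y m' * y' m' := by
    rw [dotProduct, Finset.sum_eq_single m' (fun b _ hb => ?_) (by simp)]
    by_cases hbn : b = n
    · rw [hbn, hyr n hn2 hnm, zero_mul]
    · rw [hyr' b hbn hb, mul_zero]
  have hym0 : y m' ≠ 0 := by
    rcases hcover m' hm0' hm1' hmn' with h | h <;> rw [h]
    · exact hy2
    · exact hym
  by_cases hii : i = i'
  · subst hii
    have := R.fv_inj (hy.symm.trans hy')
    rw [this] at hyr
    exact hyn' (hyr n hn2 hnm)
  · have h := R.anticomm y y'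
    rw [← hy, ← hy', Rf.anti i i' hii, neg_add_cancel, hdot] at h
    have h' := congrFun (congrFun h (Sum.inl 0)) (Sum.inl 0)
    simp [h2, hym0, hym'] at h'

/-- An orbit vector with a vanishing coordinate is on an axis. -/
theorem zero_axis {x : Fin 5 → F} (hx : Orb M e x) {i : Fin 5} (hi : x i = 0) : AxisV x := by
  refine (R.zero_any hq h5 hF (R.orb_inM hx) hi).resolve_right ?_
  rintro ⟨k, l, hkl, hk, hl, hrest⟩
  have hk0 : x k ≠ 0 := fun h => by simp [h] at hk
  obtain ⟨σ, hσ0, hσ1⟩ := exists_perm_pair k l hkl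
  set t := 2 * (x k * x l) with ht
  have htt : t * t = 1 := by rw [ht]; linear_combination (2 * (x l * x l)) * hk + hl
  set s : Fin 5 → F := fun j => if j = 1 then t else 1 with hs
  have hss : ∀ j, s j * s j = 1 := fun j => by
    by_cases hj : j = 1
    · simp [hs, hj, htt]
    · simp [hs, hj]
  refine (R.relabel σ s hss).no_pair_std hq h5 hF (c := x k) hk ?_
  convert R.orb_relabel σ s hss hx using 1
  funext j
  have hz : ∀ j : Fin 5, j ≠ 0 → j ≠ 1 → x (σ j) = 0 := fun j h0 h1 =>
    hrest _ (fun h => h0 (σ.injective (h.trans hσ0.symm))) (fun h => h1 (σ.injective (h.trans hσ1.symm)))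
  fin_cases j
  · simp [hs, hσ0]
  · simp [hs, hσ1, ht]
    linear_combination -(x k) * hl
  all_goals simp [hs, hz]

end Fr

end H48.ExtraFour
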