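import Mathlib
import Cfsg.Agent.H48.ExtraFour.Zero

/-!
# Orbit vectors lie on the frame
-/

set_option autoImplicit false
set_option linter.unusedSectionVars false
set_option linter.style.haveILetI false

open Matrix
open H49 (adjS adjS_mul adjS_one adjS_add adjS_smul adjS_zero adjS_sub adjS_neg adjS_adjS)

namespace H48.ExtraFour

variable {F : Type*} [Field F]

local notation "MS" => Matrix (Fin 2 ⊕ Fin 2) (Fin 2 ⊕ Fin 2) F

lemma axis_eq_single {x : Fin 5 → F} {i : Fin 5} (h : ∀ j, j ≠ i → x j = 0) : x = Pi.single i (x i) := by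
  funext j
  by_cases hj : j = i
  · subst hj; simp
  · simp [Pi.single_eq_of_ne hj, h j hj]

set_option maxRecDepth 8000 in
lemma exists_perm_three : ∀ m k l : Fin 5, m ≠ 0 → m ≠ 1 → k ≠ 0 → k ≠ 1 → l ≠ 0 → l ≠ 1 → m ≠ k → m ≠ l → k ≠ l →
    ∃ σ : Equiv.Perm (Fin 5), σ 0 = 0 ∧ σ 1 = 1 ∧ σ 2 = m ∧ σ 3 = k ∧ σ 4 = l := fun m k l hm hm1 hk hk1 hl hl1 h1 h2 h3 =>
  ⟨(Equiv.swap 3 (Equiv.swap 2 m k)).trans (Equiv.swap 2 m), by
    revert m k l; decide, by revert m k l; decide, by revert m k l; decide, by revert m k l; decide,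
    by revert m k l; decide⟩

set_option maxRecDepth 8000 in
set_option maxHeartbeats 1000000 in
lemma eq_third : ∀ a b c d : Fin 5, a ≠ 0 → a ≠ 1 → b ≠ 0 → b ≠ 1 → c ≠ 0 → c ≠ 1 → d ≠ 0 → d ≠ 1 → b ≠ c →
    a ≠ b → a ≠ c → d ≠ b → d ≠ c → d = a := by
  intro a b c d
  simp only [ne_eq, Fin.ext_iff, Fin.val_zero, Fin.val_one]
  omega

lemma exists_third : ∀ k l : Fin 5, k ≠ 0 → k ≠ 1 → l ≠ 0 → l ≠ 1 → k ≠ l →
    ∃ m : Fin 5, m ≠ 0 ∧ m ≠ 1 ∧ m ≠ k ∧ m ≠ l := by decide

variable {M : Subgroup (GL (Fin 2 ⊕ Fin 2) F)} {e : Fin 5 → Matrix (Fin 2 ⊕ Fin 2) (Fin 2 ⊕ Fin 2) F}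

namespace Quad

variable (Q : Quad M e)
include Q

lemma comm_pair {w : Fin 5 → F} (h : fv e w * (e 0 * e 1) = e 0 * e 1 * fv e w) : w 0 = 0 ∧ w 1 = 0 := by
  have h0 := Q.anticomm w (Pi.single 0 1)
  have h1 := Q.anticomm w (Pi.single 1 1)
  rw [fv_single, one_smul, dotProduct_single, mul_one] at h0 h1
  have h2 : fv e w * (e 0 * e 1) = (2 * w 0) • e 1 - ((2 * w 1) • e 0 - e 0 * e 1 * fv e w) := by
    rw [← mul_assoc, eq_sub_of_add_eq h0, sub_mul, smul_one_mul, mul_assoc, eq_sub_of_add_eq h1, mul_sub,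
      mul_smul_comm, mul_one, mul_assoc]
  rw [h] at h2
  have h3 : fv e (Pi.single 1 (2 * w 0) - Pi.single 0 (2 * w 1)) = 0 := by
    rw [fv_sub, fv_single, fv_single]
    linear_combination (norm := module) -h2
  have h4 := Q.fv_eq_zero h3
  have a0 := congrFun h4 0
  have a1 := congrFun h4 1
  simp [Q.two] at a0 a1
  exact ⟨a1, a0⟩

lemma ne_zero_e (i : Fin 5) : e i ≠ 0 := fun h => by
  have := Q.sq i
  rw [h, mul_zero] at this
  exact zero_ne_one this

lemma smul_e_inj {s : F} {i j : Fin 5} (hs : s ≠ 0) (h : e i = s • e j) : i = j := by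
  by_contra hij
  rw [← one_smul F (e i), ← fv_single, ← fv_single] at h
  simpa [hs, hij] using congrFun (Q.fv_inj h) i

end Quad

namespace Fr

variable (R : Fr M e)
include R

/-- A nonscalar member commuting up to sign with the product of the first two. -/
lemma pair_eq_aux (hax : ∀ x : Fin 5 → F, Orb M e x → ∀ i, x i = 0 → AxisV x) {u : Fin 5 → F}
    (hnz : ∀ i, u i ≠ 0) {z : MS} (hz : InM M z) (hzz : z * z = 1 ∨ z * z = -1) (hns : ∀ c : F, z ≠ c • 1)
    (hzu : fv e u * z = z * fv e u ∨ fv e u * z = -(z * fv e u))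
    (hzT : e 0 * e 1 * z = z * (e 0 * e 1) ∨ e 0 * e 1 * z = -(z * (e 0 * e 1)))
    (hzh : z * fv e (Pi.single 0 (u 1) - Pi.single 1 (u 0)) = fv e (Pi.single 0 (u 1) - Pi.single 1 (u 0)) * z) :
    u 0 * u 0 = u 1 * u 1 := by
  classical
  have h2 := R.two
  set T := e 0 * e 1 with hT
  -- the conjugate of `T`
  obtain ⟨δ, hδ, hδT⟩ : ∃ δ : F, δ * δ = 1 ∧ z * T * adjS z = δ • T := by
    rcases hzT with h | h
    · exact ⟨1, one_mul 1, by rw [← h, mul_assoc, R.mul_adj hz, mul_one, one_smul]⟩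
    · refine ⟨-1, by ring, ?_⟩
      have h' : z * T = -(T * z) := by rw [h, neg_neg]
      rw [h', neg_mul, mul_assoc, R.mul_adj hz, mul_one, neg_one_smul]
  have hδ0 : δ ≠ 0 := fun h => by simp [h] at hδ
  have hW : ∀ k, ∃ w, Orb M e w ∧ z * e k * adjS z = fv e w := fun k => by
    have h := R.cls_conj (R.cls_e k) hz
    obtain ⟨w, hw⟩ := R.cls_exists h
    exact ⟨w, by show Cls M e _; rw [← hw]; exact h, hw⟩
  have hlow : ∀ k : Fin 5, k ≠ 0 → k ≠ 1 →
      ∃ j : Fin 5, ∃ t : F, j ≠ 0 ∧ j ≠ 1 ∧ t * t = 1 ∧ z * e k * adjS z = t • e j := by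
    intro k hk0 hk1
    obtain ⟨w, hw, hwe⟩ := hW k
    have hc : e k * T = T * e k := by
      rw [hT, ← mul_assoc, R.anti k 0 hk0, neg_mul, mul_assoc, R.anti k 1 hk1, mul_neg, neg_neg, mul_assoc]
    have hc' : fv e w * (δ • T) = (δ • T) * fv e w := by rw [← hwe, ← hδT, R.conj_mul hz, R.conj_mul hz, hc]
    rw [mul_smul_comm, smul_mul_assoc] at hc'
    obtain ⟨hw0, hw1⟩ := R.comm_pair (smul_right_injective _ hδ0 hc')
    obtain ⟨j, hj⟩ := hax w hw 0 hw0
    have hn := R.orb_norm hw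
    rw [axis_eq_single hj] at hn hwe
    have hn' : w j * w j = 1 := by simpa using hn
    refine ⟨j, w j, ?_, ?_, hn', by rw [hwe, fv_single]⟩
    · rintro rfl; rw [hw0, mul_zero] at hn'; exact zero_ne_one hn'
    · rintro rfl; rw [hw1, mul_zero] at hn'; exact zero_ne_one hn'
  have hhigh : ∀ k : Fin 5, (k = 0 ∨ k = 1) →
      ∃ j : Fin 5, ∃ t : F, (j = 0 ∨ j = 1) ∧ t * t = 1 ∧ z * e k * adjS z = t • e j := by
    intro k hk
    obtain ⟨w, hw, hwe⟩ := hW k
    obtain ⟨j, t, -, -, ht, hj⟩ := hlow 2 (by decide) (by decide)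
    have hk2 : k ≠ 2 := by rcases hk with rfl | rfl <;> decide
    have hwj : w j = 0 := by
      have h := R.anticomm w (Pi.single j t)
      rw [fv_single, ← hj, ← hwe, R.conj_mul hz, R.conj_mul hz, R.anti k 2 hk2, mul_neg, neg_mul, neg_add_cancel,
        dotProduct_single] at h
      have h3 := congrFun (congrFun h (Sum.inl 0)) (Sum.inl 0)
      have ht0 : t ≠ 0 := fun h => by simp [h] at ht
      simpa [h2, ht0] using h3
    obtain ⟨i, hi⟩ := hax w hw j hwj
    have hn := R.orb_norm hw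
    rw [axis_eq_single hi] at hn hwe
    have hn' : w i * w i = 1 := by simpa using hn
    rw [fv_single] at hwe
    refine ⟨i, w i, ?_, hn', hwe⟩
    by_contra hc
    push Not at hc
    -- then it would commute with `T`
    have hik : e i * T = T * e i := by
      rw [hT, ← mul_assoc, R.anti i 0 hc.1, neg_mul, mul_assoc, R.anti i 1 hc.2, mul_neg, neg_neg, mul_assoc]
    have hkT : e k * T = -(T * e k) := by
      rcases hk with rfl | rfl
      · rw [hT, mul_assoc (e 0) (e 1) (e 0), R.anti 1 0 (by decide), mul_neg, neg_neg]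
      · rw [hT, ← mul_assoc, R.anti 1 0 (by decide), neg_mul]
    have h1 : z * (e k * T) * adjS z = z * (T * e k) * adjS z := by
      rw [← R.conj_mul hz (e k) T, ← R.conj_mul hz T (e k), hwe, hδT, smul_mul_smul_comm, smul_mul_smul_comm, hik, mul_comm (w i) δ]
    rw [hkT, mul_neg, neg_mul] at h1
    have h3 : (2 : F) • (z * (T * e k) * adjS z) = 0 := by
      rw [two_smul]
      nth_rewrite 1 [← h1]
      rw [neg_add_cancel]
    have h4 := congrArg (fun X => adjS z * X * z) ((smul_eq_zero.1 h3).resolve_left h2)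
    simp only [R.conj_conj hz, mul_zero, zero_mul] at h4
    have h5 : e 0 * e 1 * e k * (e k * e 1 * e 0) = 1 := by
      have s : ∀ i (X : MS), e i * (e i * X) = X := fun i X => by rw [← mul_assoc, R.sq, one_mul]
      simp only [mul_assoc, s, R.sq]
    rw [← hT, h4, zero_mul] at h5
    exact zero_ne_one h5
  obtain ⟨j0, t0, hj0, ht0, hz0⟩ := hhigh 0 (Or.inl rfl)
  obtain ⟨j1, t1, hj1, ht1, hz1⟩ := hhigh 1 (Or.inr rfl)
  have hh : u 1 • (z * e 0 * adjS z) - u 0 • (z * e 1 * adjS z) = u 1 • e 0 - u 0 • e 1 := by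
    have := congrArg (· * adjS z) hzh
    rw [fv_sub, fv_single, fv_single] at this
    simp only [mul_sub, sub_mul, mul_smul_comm, smul_mul_assoc, mul_assoc, R.mul_adj hz, mul_one] at this
    simpa [mul_assoc] using this
  have hhf : fv e (Pi.single j0 (u 1 * t0) - Pi.single j1 (u 0 * t1)) =
      fv e (Pi.single 0 (u 1) - Pi.single 1 (u 0)) := by
    rw [fv_sub, fv_sub, fv_single, fv_single, fv_single, fv_single, ← hh, hz0, hz1, smul_smul, smul_smul]
  have hv := R.fv_inj hhf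
  have v0 := congrFun hv 0
  have v1 := congrFun hv 1
  rcases hj0 with rfl | rfl <;> rcases hj1 with rfl | rfl
  · exact absurd (by simpa using v1.symm) (hnz 0)
  swap
  · simp at v0 v1
    linear_combination (u 1 - u 0 * t1) * v0 - (u 0 * u 0) * ht1
  swap
  · exact absurd (by simpa using v0.symm) (hnz 1)
  exfalso
  simp at v0 v1
  have e0 : t0 = 1 := mul_left_cancel₀ (hnz 1) (by linear_combination v0)
  have e1 : t1 = 1 := mul_left_cancel₀ (hnz 0) (by linear_combination v1)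
  rw [e0, one_smul] at hz0
  rw [e1, one_smul] at hz1
  have hlow' : ∀ k : Fin 5, ∃ j : Fin 5, ∃ t : F, t * t = 1 ∧ z * e k * adjS z = t • e j := fun k => by
    by_cases hk0 : k = 0
    · exact ⟨0, 1, one_mul 1, by rw [hk0, hz0, one_smul]⟩
    by_cases hk1 : k = 1
    · exact ⟨1, 1, one_mul 1, by rw [hk1, hz1, one_smul]⟩
    obtain ⟨j, t, -, -, ht, hj⟩ := hlow k hk0 hk1
    exact ⟨j, t, ht, hj⟩
  choose π s hs hπ using hlow'
  have hinj : Function.Injective π := fun a b hab => by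
    have h : z * e a * adjS z = (s a * s b) • (z * e b * adjS z) := by
      rw [hπ a, hπ b, hab, smul_smul, mul_assoc, hs, mul_one]
    have h' := congrArg (fun X => adjS z * X * z) h
    simp only [mul_smul_comm, smul_mul_assoc, R.conj_conj hz] at h'
    exact R.smul_e_inj (mul_ne_zero (fun h => by simpa [h] using hs a) (fun h => by simpa [h] using hs b)) h'
  have hπ0 : π 0 = 0 := by
    refine (R.smul_e_inj (s := s 0) (fun h => by simpa [h] using hs 0) ?_).symm
    rw [← hπ, hz0]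
  have hπ1 : π 1 = 1 := by
    refine (R.smul_e_inj (s := s 1) (fun h => by simpa [h] using hs 1) ?_).symm
    rw [← hπ, hz1]
  have hs0 : s 0 = 1 := by
    have h : fv e (Pi.single 0 (s 0)) = fv e (Pi.single 0 1) := by
      have := hπ 0
      rw [hπ0, hz0] at this
      rw [fv_single, fv_single, one_smul, ← this]
    simpa using congrFun (R.fv_inj h) 0
  -- the sign with `u` is one
  obtain ⟨ε, -, hεu⟩ : ∃ ε : F, ε * ε = 1 ∧ z * fv e u * adjS z = ε • fv e u := by
    rcases hzu with h | h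
    · exact ⟨1, one_mul 1, by rw [← h, mul_assoc, R.mul_adj hz, mul_one, one_smul]⟩
    · refine ⟨-1, by ring, ?_⟩
      have h' : z * fv e u = -(fv e u * z) := by rw [h, neg_neg]
      rw [h', neg_mul, mul_assoc, R.mul_adj hz, mul_one, neg_one_smul]
  have hsum : fv e (fun j => ∑ k, if π k = j then u k * s k else 0) = z * fv e u * adjS z := by
    rw [conj_fv]
    unfold fv
    simp only [hπ, Finset.sum_smul, ite_smul, zero_smul, smul_smul]
    rw [Finset.sum_comm]
    simp
  have hcoef : ∀ k, u k * s k = ε * u (π k) := fun k => by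
    rw [hεu, ← fv_smul] at hsum
    have h := congrFun (R.fv_inj hsum) (π k)
    simp only [Pi.smul_apply, smul_eq_mul] at h
    rwa [Finset.sum_eq_single k (fun b _ hb => if_neg fun h => hb (hinj h)) (by simp), if_pos rfl] at h
  have hε : ε = 1 := mul_right_cancel₀ (hnz 0) (by
    have := hcoef 0
    rw [hπ0, hs0] at this
    linear_combination -this)
  by_cases hid : ∀ k, π k = k
  · obtain ⟨c, hc⟩ := R.scal z fun k => by
      have hsk : s k = 1 := mul_left_cancel₀ (hnz k) (by rw [hcoef, hid, hε]; ring)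
      have h := congrArg (· * z) (hπ k)
      rw [hid, hsk, one_smul] at h
      simpa [mul_assoc, R.adj_mul hz] using h
    exact hns c hc
  push Not at hid
  obtain ⟨k, hk⟩ := hid
  have hk0 : k ≠ 0 := fun h => hk (h ▸ hπ0)
  have hk1 : k ≠ 1 := fun h => hk (h ▸ hπ1)
  set l := π k with hl
  have hl0 : l ≠ 0 := fun h => hk0 (hinj (h.trans hπ0.symm))
  have hl1 : l ≠ 1 := fun h => hk1 (hinj (h.trans hπ1.symm))
  have hsq : ∀ X : MS, z * (z * X * adjS z) * adjS z = X := fun X => by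
    have h1 : adjS z * adjS z = 1 ∨ adjS z * adjS z = -1 := by
      rw [← adjS_mul]
      rcases hzz with h | h <;> rw [h]
      · exact Or.inl adjS_one
      · exact Or.inr (by rw [adjS_neg, adjS_one])
    rw [show z * (z * X * adjS z) * adjS z = z * z * X * (adjS z * adjS z) by simp only [mul_assoc]]
    rcases hzz with h | h <;> rw [← adjS_mul, h]
    · simp [adjS_one]
    · simp [adjS_neg, adjS_one]
  have hπl : π l = k := by
    have h := hsq (e k)
    rw [hπ k, mul_smul_comm, smul_mul_assoc, hπ, smul_smul] at h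
    exact (R.smul_e_inj (mul_ne_zero (fun h => by simpa [h] using hs k) (fun h => zero_ne_one (α := F) (by rw [← hs l, show s l = 0 from h, mul_zero])))
      h.symm).symm
  obtain ⟨m, hm0, hm1, hmk, hml⟩ := exists_third k l hk0 hk1 hl0 hl1 (Ne.symm hk)
  have hπm : π m = m := by
    have h0 : π m ≠ 0 := fun h => hm0 (hinj (h.trans hπ0.symm))
    have h1 : π m ≠ 1 := fun h => hm1 (hinj (h.trans hπ1.symm))
    have h3 : π m ≠ k := fun h => hml (hinj (h.trans hπl.symm))
    have h4 : π m ≠ l := fun h => hmk (hinj h)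
    exact eq_third m k l (π m) hm0 hm1 hk0 hk1 hl0 hl1 h0 h1 (Ne.symm hk) hmk hml h3 h4
  have hsm : s m = 1 := mul_left_cancel₀ (hnz m) (by rw [hcoef, hπm, hε]; ring)
  have hzm : z * e m * adjS z = e m := by rw [hπ, hπm, hsm, one_smul]
  have hskl : s k * s l = 1 := by
    apply mul_left_cancel₀ (hnz k)
    have a1 := hcoef k
    have a2 := hcoef l
    rw [hπl, hε, one_mul] at a2
    rw [← hl, hε, one_mul] at a1
    linear_combination s l * a1 + a2
  obtain ⟨σ, hσ0, hσ1, hσ2, hσ3, hσ4⟩ := exists_perm_three m k l hm0 hm1 hk0 hk1 hl0 hl1 hmk hml (Ne.symm hk)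
  obtain ⟨η, -, hη⟩ := (R.relabel σ (fun _ => 1) fun _ => one_mul 1).exists_orient
  simp only [one_smul, hσ0, hσ1, hσ2, hσ3, hσ4] at hη
  have hkl : e k * e l = η • (e m * e 1 * e 0) := by
    calc e k * e l = e m * e 1 * (e 1 * e m * e k * e l) := by
          have s : ∀ i (X : MS), e i * (e i * X) = X := fun i X => by rw [← mul_assoc, R.sq, one_mul]
          simp only [mul_assoc, s]
      _ = _ := by rw [hη, mul_smul_comm]
  have hc1 : z * (e k * e l) * adjS z = e k * e l := by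
    rw [hkl, mul_smul_comm, smul_mul_assoc, ← R.conj_mul hz, ← R.conj_mul hz, hzm, hz1, hz0]
  have hc2 : z * (e k * e l) * adjS z = -(e k * e l) := by
    rw [← R.conj_mul hz, hπ, hπ, hπl, ← hl, smul_mul_smul_comm, hskl, one_smul, R.anti l k hk]
  have h3 : (2 : F) • (e k * e l) = 0 := by
    rw [two_smul]
    nth_rewrite 1 [hc1.symm.trans hc2]
    rw [neg_add_cancel]
  have h4 : e k * (e k * e l) = 0 := by rw [(smul_eq_zero.1 h3).resolve_left h2, mul_zero]
  rw [← mul_assoc, R.sq, one_mul] at h4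
  exact R.ne_zero_e l h4

variable [Fintype F] {p : ℕ} [Fact p.Prime] [CharP F p]
  (hq : Fintype.card F = p) (h5 : 5 ≤ p)
  (hF : ∀ e' : Fin 5 → Matrix (Fin 2 ⊕ Fin 2) (Fin 2 ⊕ Fin 2) F, Fr M e' → Facts M e')
include hq h5 hF

lemma pair_eq {u : Fin 5 → F} (hu : Orb M e u) (hnz : ∀ i, u i ≠ 0) : u 0 * u 0 = u 1 * u 1 := by
  have hA : fv e u * fv e u = 1 := by rw [R.fv_sq, R.orb_norm hu, one_smul]
  have hTT : e 0 * e 1 * (e 0 * e 1) = -1 := by
    rw [mul_assoc (e 0), ← mul_assoc (e 1), R.anti 1 0 (by decide), neg_mul, mul_neg, mul_assoc (e 0) (e 1), R.sq,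
      mul_one, R.sq]
  obtain ⟨z, ⟨n, rfl⟩, hz, hzz, hns, hzu, hzT⟩ :=
    R.exists_central (R.orb_inM hu) ((R.mem 0).mul (R.mem 1)) hA hTT
  refine R.pair_eq_aux (fun x hx i hi => R.zero_axis hq h5 hF hx hi) hnz hz hzz hns hzu hzT ?_
  refine (Commute.pow_left ?_ n).eq
  set h := fv e (Pi.single 0 (u 1) - Pi.single 1 (u 0)) with hh
  have h1 : fv e u * h = -(h * fv e u) := R.fv_anti (by simp [dotProduct_sub]; ring)
  have h2 : e 0 * e 1 * h = -(h * (e 0 * e 1)) := by
    have s : ∀ i (X : MS), e i * (e i * X) = X := fun i X => by rw [← mul_assoc, R.sq, one_mul]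
    simp only [hh, fv_sub, fv_single, mul_sub, sub_mul, mul_smul_comm, smul_mul_assoc, mul_assoc, s, R.sq, mul_one,
      R.anti 1 0 (by decide), mul_neg, neg_sub]
    rw [← mul_assoc (e 1) (e 0), R.anti 1 0 (by decide), neg_mul, mul_assoc (e 0) (e 1), R.sq, mul_one]
    module
  show fv e u * (e 0 * e 1) * h = h * (fv e u * (e 0 * e 1))
  rw [mul_assoc (fv e u), h2, mul_neg, ← mul_assoc (fv e u) h, h1, neg_mul, neg_neg, mul_assoc]

lemma all_eq {u : Fin 5 → F} (hu : Orb M e u) (hnz : ∀ i, u i ≠ 0) (i j : Fin 5) : u i * u i = u j * u j := by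
  by_cases hij : i = j
  · rw [hij]
  obtain ⟨σ, hσ0, hσ1⟩ := exists_perm_pair i j hij
  have hs1 : ∀ _k : Fin 5, (1 : F) * 1 = 1 := fun _ => one_mul 1
  have h := (R.relabel σ (fun _ => 1) hs1).pair_eq hq h5 hF (R.orb_relabel σ (fun _ => 1) hs1 hu)
    (fun k => by simpa using hnz (σ k))
  simpa [hσ0, hσ1] using h

/-- All orbit vectors are on the axes. -/
theorem orb_axis {u : Fin 5 → F} (hu : Orb M e u) : AxisV u := by
  by_contra hax
  have hne : ∀ n : ℕ, 0 < n → n < p → (n : F) ≠ 0 := fun n h0 hn =>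
    natCast_ne_zero_of_mod (p := p) fun h => by have := Nat.le_of_dvd h0 h; omega
  have h3 : (3 : F) ≠ 0 := by exact_mod_cast hne 3 (by norm_num) (by omega)
  have h2 := R.two
  have hnz : ∀ i, u i ≠ 0 := fun i hi => hax (R.zero_axis hq h5 hF hu hi)
  set t := u 0 * u 0 with ht
  have hall : ∀ i, u i * u i = t := fun i => R.all_eq hq h5 hF hu hnz i 0
  have hn : 5 * t = 1 := by
    have h := R.orb_norm hu
    simp only [dotProduct, hall, Finset.sum_const, Finset.card_univ, Fintype.card_fin, nsmul_eq_mul] at h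
    simpa using h
  have hB : u ⬝ᵥ flip2 0 1 u = 1 - 4 * t := by
    simp [dotProduct, flip2, Fin.sum_univ_five, hall]
    linear_combination hn
  have hv := R.orb_reflect hu (R.orb_flip hu (i := 0) (j := 1) (by decide))
  rw [hB] at hv
  set v := (2 * (1 - 4 * t)) • u - flip2 0 1 u with hv'
  have hm : 2 * (1 - 4 * t) - 1 ≠ 0 := fun h => h3 (by linear_combination (-5 : F) * h - 8 * hn)
  have v2 : v 2 ≠ 0 := by
    rw [show v 2 = (2 * (1 - 4 * t) - 1) * u 2 by simp [hv', flip2]; ring]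
    exact mul_ne_zero hm (hnz 2)
  have v3 : v 3 ≠ 0 := by
    rw [show v 3 = (2 * (1 - 4 * t) - 1) * u 3 by simp [hv', flip2]; ring]
    exact mul_ne_zero hm (hnz 3)
  have hvnz : ∀ i, v i ≠ 0 := fun i hi =>
    not_axis_of_two (by decide) v2 v3 (R.zero_axis hq h5 hF hv hi)
  have h := R.all_eq hq h5 hF hv hvnz 0 2
  simp [hv', flip2] at h
  have h' : ((8 : ℕ) : F) * (1 - 4 * t) * t = 0 := by
    push_cast
    linear_combination h - (2 * (1 - 4 * t) + 1) ^ 2 * (hall 0) + (2 * (1 - 4 * t) - 1) ^ 2 * (hall 2)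
  have h8 : ((8 : ℕ) : F) ≠ 0 := by
    push_cast
    rw [show (8 : F) = 2 * 2 * 2 by norm_num]
    exact mul_ne_zero (mul_ne_zero h2 h2) h2
  rcases mul_eq_zero.1 h' with h' | h'
  · rcases mul_eq_zero.1 h' with h' | h'
    · exact h8 h'
    · exact one_ne_zero (α := F) (by linear_combination 5 * h' + 4 * hn)
  · exact one_ne_zero (α := F) (by linear_combination (-1 : F) * hn + 5 * h')

end Fr

end H48.ExtraFour
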