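import Mathlib
import Cfsg.Agent.H48.ExtraFour.Facts
import Cfsg.Agent.H48.ExtraFour.Zero
import Cfsg.Agent.H40.GL2Count

/-!
# The field of three elements
-/

set_option autoImplicit false
set_option linter.unusedSectionVars false
set_option linter.style.haveILetI false

open Matrix
open scoped MatrixGroups
open H49 (adjS adjS_mul adjS_one adjS_add adjS_smul adjS_zero adjS_sub adjS_neg adjS_adjS)
open H39 (proj)

namespace H48.ExtraFour

variable {F : Type*} [Field F]

local notation "SI" => (Fin 2 ⊕ Fin 2)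
local notation "MS" => Matrix (Fin 2 ⊕ Fin 2) (Fin 2 ⊕ Fin 2) F

/-- Two commuting involutions and an element of order three in a subgroup. -/
lemma twelve_le {G : Type*} [Group G] [Finite G] {i j r : G} (T : Tet i j r) (H : Subgroup G) (hi : i ∈ H)
    (hj : j ∈ H) {a : G} (ha : a ∈ H) (ha3 : orderOf a = 3) : 12 ≤ Nat.card H := by
  classical
  have hii : ∀ w : G, i * (i * w) = w := fun w => by rw [← mul_assoc, T.ii, one_mul]
  have hjj : ∀ w : G, j * (j * w) = w := fun w => by rw [← mul_assoc, T.jj, one_mul]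
  have hji : j * i = i * j := T.comm.symm
  have hjiw : ∀ w : G, j * (i * w) = i * (j * w) := fun w => by rw [← mul_assoc, hji, mul_assoc]
  have iinv : i⁻¹ = i := inv_eq_of_mul_eq_one_left T.ii
  have jinv : j⁻¹ = j := inv_eq_of_mul_eq_one_left T.jj
  let V : Subgroup G :=
    { carrier := {1, i, j, i * j}
      one_mem' := by simp
      mul_mem' := by
        rintro x y (rfl | rfl | rfl | rfl) (rfl | rfl | rfl | rfl) <;>
          simp [T.ii, T.jj, hii, hjj, hji, hjiw, mul_assoc]
      inv_mem' := by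
        rintro x (rfl | rfl | rfl | rfl) <;> simp [iinv, jinv, hji] }
  have hV : V ≤ H := by
    intro x hx
    rcases hx with rfl | rfl | rfl | rfl
    exacts [one_mem H, hi, hj, mul_mem hi hj]
  have hij1 : i * j ≠ 1 := fun h => T.nij ((eq_inv_of_mul_eq_one_left h).trans jinv)
  have hij2 : i * j ≠ i := fun h => T.jne (mul_eq_left.1 h)
  have hij3 : i * j ≠ j := fun h => T.ne (mul_eq_right.1 h)
  have hVcard : Nat.card V = 4 := by
    show Nat.card ↥({1, i, j, i * j} : Set G) = 4
    rw [Nat.card_coe_set_eq, Set.ncard_insert_of_notMem (by simp [Ne.symm T.ne, Ne.symm T.jne, Ne.symm hij1]),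
      Set.ncard_insert_of_notMem (by simp [T.nij, Ne.symm hij2]), Set.ncard_pair (Ne.symm hij3)]
  have h4 : 4 ∣ Nat.card H := hVcard ▸ Subgroup.card_dvd_of_le hV
  have h3 : 3 ∣ Nat.card H := by
    rw [← ha3, ← Subgroup.orderOf_mk a ha]
    exact orderOf_dvd_natCard _
  exact Nat.le_of_dvd Nat.card_pos (Nat.Coprime.mul_dvd_of_dvd_of_dvd (by norm_num : Nat.Coprime 4 3) h4 h3)

variable {M : Subgroup (GL (Fin 2 ⊕ Fin 2) F)} {e : Fin 5 → Matrix (Fin 2 ⊕ Fin 2) (Fin 2 ⊕ Fin 2) F}

namespace Fr

variable (R : Fr M e)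
include R

lemma sp_of_three_half [Fintype F] (hq : Fintype.card F = 3) (h3 : (3 : F) = 0)
    (hh : Orb M e ![0, 1, 1, 1, 1]) : Cfsg.spGL 2 F ≤ M := by
  classical
  obtain ⟨ε, hε, hor⟩ := R.exists_orient
  have a : ∀ i j : Fin 5, i ≠ j → ∀ X : MS, e i * (e j * X) = -(e j * (e i * X)) := fun i j h X => by
    rw [← mul_assoc, R.anti i j h, neg_mul, mul_assoc]
  have s : ∀ i (X : MS), e i * (e i * X) = X := fun i X => by rw [← mul_assoc, R.sq, one_mul]
  set S : MS := e 1 * e 2 + e 1 * e 3 + e 1 * e 4 with hS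
  have hSS : S * S = 0 := by
    simp only [hS, add_mul, mul_add, mul_assoc, a 2 1 (by decide), a 3 1 (by decide), a 4 1 (by decide), s, R.sq,
      mul_neg, R.anti 3 2 (by decide), R.anti 4 2 (by decide), R.anti 4 3 (by decide)]
    calc _ = (-3 : F) • (1 : MS) := by match_scalars <;> ring
      _ = 0 := by rw [h3, neg_zero, zero_smul]
  have hS0 : S * e 0 = e 0 * S := by
    simp only [hS, add_mul, mul_add, (R.inC_pair (i := 1) (j := 2) (by decide) (by decide)).2,
      (R.inC_pair (i := 1) (j := 3) (by decide) (by decide)).2,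
      (R.inC_pair (i := 1) (j := 4) (by decide) (by decide)).2]
  have hpS : hp e * S * (hp e * S) = 0 := by
    rw [← R.hp_comm hS0, mul_assoc S, ← mul_assoc (hp e) S, ← R.hp_comm hS0, mul_assoc S (hp e), R.hp_mul_hp,
      ← mul_assoc, hSS, zero_mul]
  -- the element of the centraliser
  have hinv : (2 : F)⁻¹ = -1 := inv_eq_of_mul_eq_one_right (by linear_combination -h3)
  obtain ⟨Z, hZ, hZv⟩ : ∃ Z, InC M e Z ∧ Z = 1 + ε • (hp e * S) := by
    have hg : InC M e (fv e ![0, 1, 1, 1, 1] * e 1 * adjS (rho e)) := by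
      have h1 := R.inC_fv_pair (x := ![0, 1, 1, 1, 1]) (y := Pi.single 1 1) rfl (by simp) (R.orb_inM hh)
        (by rw [fv_single, one_smul]; exact R.mem 1)
      rw [fv_single, one_smul] at h1
      exact R.inC_mul h1 (R.inC_adj (R.inC_rho R.rho_mem))
    have hval : fv e ![0, 1, 1, 1, 1] * e 1 * adjS (rho e) = 1 - (1 + ε • e 0) * S := by
      have hR : adjS (rho e) = 1 - ε • (e 0 * S) := by
        have h34 : e 3 * e 4 = ε • (e 2 * e 1 * e 0) := by
          rw [← mul_smul_comm, ← hor]; simp only [mul_assoc, s]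
        have r34 : e 0 * (e 1 * e 2) = (-ε) • (e 3 * e 4) := by
          rw [h34, smul_smul, neg_mul, hε, neg_one_smul, R.anti 2 1 (by decide), neg_mul, neg_neg,
            ← (R.inC_pair (i := 1) (j := 2) (by decide) (by decide)).2]
        have r24 : e 0 * (e 1 * e 3) = ε • (e 2 * e 4) := by
          have : e 0 * (e 1 * e 3) = ε • (e 1 * e 2 * e 3 * e 4 * (e 1 * e 3)) := by
            rw [hor, smul_mul_assoc, smul_smul, hε, one_smul]
          rw [this]
          simp only [mul_assoc, a 4 1 (by decide), a 3 1 (by decide), a 2 1 (by decide), s, R.anti 4 3 (by decide),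
            mul_neg, neg_neg]
        have r23 : e 0 * (e 1 * e 4) = (-ε) • (e 2 * e 3) := by
          have : e 0 * (e 1 * e 4) = ε • (e 1 * e 2 * e 3 * e 4 * (e 1 * e 4)) := by
            rw [hor, smul_mul_assoc, smul_smul, hε, one_smul]
          rw [this]
          simp only [mul_assoc, a 4 1 (by decide), R.anti 3 1 (by decide), a 2 1 (by decide), s, R.sq, mul_one,
            mul_neg, neg_neg, neg_smul, smul_neg]
        rw [hS, mul_add, mul_add, r34, r24, r23]
        simp only [rho, adjS_smul, adjS_add, adjS_sub, adjS_mul, adjS_one, R.adj, R.anti 3 2 (by decide),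
          R.anti 4 2 (by decide), R.anti 4 3 (by decide), hinv]
        match_scalars <;> first | ring1 | linear_combination -hε | linear_combination hε
      have hH : fv e ![0, 1, 1, 1, 1] * e 1 = 1 - S := by
        simp only [fv, Fin.sum_univ_five, Matrix.cons_val, one_smul, zero_smul, zero_add, add_mul, R.sq,
          R.anti 2 1 (by decide), R.anti 3 1 (by decide), R.anti 4 1 (by decide), hS]
        abel
      rw [hR, hH]
      have hSe : S * (e 0 * S) = 0 := by rw [← mul_assoc, hS0, mul_assoc, hSS, mul_zero]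
      simp only [sub_mul, mul_sub, one_mul, mul_one, add_mul, mul_smul_comm, smul_mul_assoc, hSe, smul_zero, sub_zero]
      abel
    rcases mul_self_eq_one_iff.1 hε with h | h
    · refine ⟨_, hg, ?_⟩
      rw [hval, h, one_smul, one_smul, hp, hinv]
      simp only [smul_mul_assoc, add_mul, one_mul]
      module
    · refine ⟨e 1 * (fv e ![0, 1, 1, 1, 1] * e 1 * adjS (rho e)) * e 1,
        ⟨((R.mem 1).mul hg.1).mul (R.mem 1), ?_⟩, ?_⟩
      · rw [mul_assoc _ (e 1) (e 0), R.anti 1 0 (by decide), mul_neg, ← mul_assoc, mul_assoc (e 1) _ (e 0), hg.2,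
          ← mul_assoc (e 1) (e 0), R.anti 1 0 (by decide), neg_mul, neg_mul, neg_neg]
        simp only [mul_assoc]
      · have hS1 : e 1 * S * e 1 = -S := by
          simp only [hS, add_mul, mul_add, mul_assoc, R.anti 2 1 (by decide), R.anti 3 1 (by decide),
            R.anti 4 1 (by decide), mul_neg, s]
          abel
        have h01 : e 1 * ((1 + ε • e 0) * S) * e 1 = -((1 - ε • e 0) * S) := by
          simp only [add_mul, mul_add, one_mul, smul_mul_assoc, mul_smul_comm, sub_mul]
          rw [hS1, ← mul_assoc (e 1) (e 0) S, R.anti 1 0 (by decide), neg_mul, mul_assoc (e 0), neg_mul,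
            mul_assoc (e 0), hS1, mul_neg, neg_neg]
          match_scalars <;> ring
        rw [hval, mul_sub, mul_one, sub_mul, R.sq, h01, h, hp, hinv]
        simp only [neg_one_smul, sub_neg_eq_add, smul_mul_assoc, neg_mul, add_mul, one_mul, neg_neg]
  obtain ⟨B, L, P⟩ := R.exists_pl
  have Q := R.toQuad
  have hZm : Z * hm e = hm e := by
    rw [hZv, add_mul, one_mul, smul_mul_assoc, mul_assoc, R.hm_comm hS0, ← mul_assoc, R.hp_mul_hm, zero_mul,
      smul_zero, add_zero]
  have hZ3 : Z * Z * Z = 1 := by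
    rw [hZv]
    simp only [add_mul, mul_add, one_mul, mul_one, smul_mul_assoc, mul_smul_comm, hpS, smul_zero, zero_mul,
      add_zero]
    match_scalars
    · ring
    · linear_combination ε * h3
  have hns : ∀ c : F, Z * hp e ≠ c • hp e := by
    intro c hc
    have hx : ε • (S * hp e) = (c - 1) • hp e := by
      rw [hZv, add_mul, one_mul, smul_mul_assoc, ← R.hp_comm hS0, mul_assoc, R.hp_mul_hp] at hc
      rw [sub_smul, one_smul, ← hc, add_sub_cancel_left]
    have k1 : ε * ptr e S = (c - 1) * 2 := by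
      have := congrArg Matrix.trace hx
      rw [Matrix.trace_smul, Matrix.trace_smul, ← one_mul (hp e), ← ptr, R.ptr_one, smul_eq_mul, smul_eq_mul,
        one_mul] at this
      exact this
    have hS2 : ptr e S = 0 := by
      rw [hS, R.ptr_add, R.ptr_add, R.ptr_pair (by decide) (by decide) (by decide),
        R.ptr_pair (by decide) (by decide) (by decide), R.ptr_pair (by decide) (by decide) (by decide), add_zero,
        add_zero]
    have hc1 : c - 1 = 0 := by
      rw [hS2, mul_zero] at k1
      exact (mul_eq_zero.1 k1.symm).resolve_right R.two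
    have hε0 : ε ≠ 0 := fun h => by simp [h] at hε
    rw [hc1, zero_smul] at hx
    have hz : S * hp e = 0 := (smul_eq_zero.1 hx).resolve_left hε0
    have hz2 : ptr e (e 1 * e 2 * S) = 0 := by
      rw [ptr, mul_assoc, hz, mul_zero, Matrix.trace_zero]
    rw [hS] at hz2
    simp only [mul_add, mul_assoc, a 2 1 (by decide), mul_neg, s, R.ptr_add, R.ptr_neg, R.sq, R.ptr_one,
      R.ptr_pair (i := 2) (j := 3) (by decide) (by decide) (by decide),
      R.ptr_pair (i := 2) (j := 4) (by decide) (by decide) (by decide), add_zero, neg_zero] at hz2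
    exact R.two (neg_eq_zero.1 hz2)
  haveI : Finite (Matrix.ProjectiveSpecialLinearGroup (Fin 2) F) := inferInstance
  set H := (P.ker Q).map proj with hH
  have hI : proj (P.toSL Q R.iota_mem) = proj (P.toSL Q Q.inC_qi) :=
    P.toSL_smul Q R.iota_mem Q.inC_qi (one_mul 1) (by rw [one_smul, R.iota_hp])
  have hIker : P.toSL Q R.iota_mem ∈ P.ker Q := ⟨_, R.iota_mem, R.iota_hm, rfl⟩
  have T := (P.tet Q R.rho_mem).map (f := (P.bar Q).subtype) (Subgroup.subtype_injective _)
  have hi : ((P.bar Q).subtype (P.toBar Q Q.inC_qi)) ∈ H := ⟨_, hIker, hI⟩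
  have hj : ((P.bar Q).subtype (P.toBar Q Q.inC_qj)) ∈ H := by
    rw [← T.ri]
    refine ⟨_, P.ker_normalized Q (P.toSL_mem Q (Q.inC_rho R.rho_mem)) hIker, ?_⟩
    rw [map_mul, map_mul, map_inv, hI]
    rfl
  set A := P.toSL Q hZ
  have hAker : A ∈ P.ker Q := ⟨Z, hZ, hZm, rfl⟩
  have hA3 : A ^ 3 = 1 := by
    apply Subtype.ext
    rw [pow_succ, pow_two, Matrix.SpecialLinearGroup.coe_mul, Matrix.SpecialLinearGroup.coe_mul,
      Matrix.SpecialLinearGroup.coe_one, P.coe_toSL Q, ← P.pmap_mul Q _ hZ.2, ← P.pmap_mul Q _ hZ.2, hZ3,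
      P.pmap_one Q]
  have hA1 : proj A ≠ 1 := fun h => by
    rw [H39.proj_eq_one_iff, H39.mem_center_iff_pm] at h
    rcases h with h | h
    · exact P.ne_pm Q hZ hns 1 (by rw [one_smul]; exact congrArg Subtype.val h)
    · exact P.ne_pm Q hZ hns (-1) (by
        rw [neg_one_smul]
        exact (congrArg Subtype.val h).trans (by simp))
  have h12 : 12 ≤ Nat.card H := twelve_le T H hi hj ⟨A, hAker, rfl⟩
    (orderOf_eq_prime (by rw [← map_pow, hA3, map_one]) hA1)
  have hneg : (-1 : SL(2, F)) ∈ P.ker Q := by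
    have hCC : P.toSL Q R.iota_mem * P.toSL Q R.iota_mem = -1 := by
      apply Subtype.ext
      have h1 : L * (qi e * hp e + hm e) * B = L * qi e * B := by
        rw [← P.map_hp Q, R.iota_hp, P.map_hp Q]
      rw [Matrix.SpecialLinearGroup.coe_mul, Matrix.SpecialLinearGroup.coe_neg, Matrix.SpecialLinearGroup.coe_one,
        P.coe_toSL Q, h1, ← P.pmap_mul Q _ Q.inC_qi.2, Q.qi_sq, Matrix.mul_neg, Matrix.neg_mul, P.pmap_one Q]
    exact hCC ▸ mul_mem hIker hIker
  set f : P.ker Q →* Matrix.ProjectiveSpecialLinearGroup (Fin 2) F := proj.comp (P.ker Q).subtype with hf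
  have hrange : f.range = H := by rw [hf, MonoidHom.range_comp, Subgroup.range_subtype]
  have hker : 2 ≤ Nat.card f.ker := by
    refine Nat.succ_le_of_lt ((Subgroup.one_lt_card_iff_ne_bot f.ker).2 fun h => ?_)
    have hmem : (⟨-1, hneg⟩ : P.ker Q) ∈ f.ker := by
      rw [MonoidHom.mem_ker]
      show proj (-1 : SL(2, F)) = 1
      rw [H39.proj_eq_one_iff, H39.mem_center_iff_pm]
      exact Or.inr rfl
    rw [h, Subgroup.mem_bot] at hmem
    have := congrArg (fun X : P.ker Q => ((X : SL(2, F)) : Matrix (Fin 2) (Fin 2) F) 0 0) hmem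
    simp at this
    exact R.two (by linear_combination -this)
  have h24 : 24 ≤ Nat.card (P.ker Q) := by
    rw [← Subgroup.card_mul_index f.ker, Subgroup.index_ker, hrange]
    calc 24 = 2 * 12 := by norm_num
      _ ≤ _ := Nat.mul_le_mul hker h12
  have htop : P.ker Q = ⊤ := by
    refine Subgroup.eq_top_of_le_card _ ?_
    rw [H40.card_SL2, hq]
    exact h24
  exact sp_le_of_ker Q P htop (R.cls_e 1) (R.anti 1 0 (by decide))

/-- Over three elements an orbit vector off the axes gives the symplectic group. -/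
theorem sp_or_axis_three [Fintype F] [CharP F 3] (hq : Fintype.card F = 3) :
    Cfsg.spGL 2 F ≤ M ∨ ∀ x : Fin 5 → F, Orb M e x → AxisV x := by
  classical
  by_cases hall : ∀ x : Fin 5 → F, Orb M e x → AxisV x
  · exact Or.inr hall
  push Not at hall
  obtain ⟨x, hx, hax⟩ := hall
  left
  have h3 : (3 : F) = 0 := by exact_mod_cast CharP.cast_eq_zero F 3
  have hsq : ∀ a : F, a = 0 ∨ a * a = 1 := fun a => by
    by_cases ha : a = 0
    · exact Or.inl ha
    · refine Or.inr ?_
      have := FiniteField.pow_card_sub_one_eq_one a ha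
      rw [hq] at this
      simpa [pow_two] using this
  have hn := R.orb_norm hx
  -- exactly one coordinate vanishes
  obtain ⟨i, hi, hothers⟩ : ∃ i, x i = 0 ∧ ∀ j, j ≠ i → x j ≠ 0 := by
    set T := Finset.univ.filter fun j => x j ≠ 0 with hT
    have hsum : ((T.card : ℕ) : F) = 1 := by
      rw [← hn, dotProduct, ← Finset.sum_filter_of_ne (p := fun j => x j ≠ 0) (fun j _ h h' => h (by rw [h', zero_mul])),
        ← hT, Finset.card_eq_sum_ones, Nat.cast_sum, Nat.cast_one]
      exact Finset.sum_congr rfl fun j hj => ((hsq _).resolve_left (by simpa [hT] using hj)).symm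
    have hle : T.card ≤ 5 := (Finset.card_le_univ T).trans (by simp)
    have h1 : T.card ≠ 1 := fun h => by
      obtain ⟨k, hk⟩ := Finset.card_eq_one.1 h
      refine hax ⟨k, fun j hj => by_contra fun hj' => hj ?_⟩
      have : j ∈ T := by simp [hT, hj']
      simpa [hk] using this
    have hmod : T.card % 3 = 1 := by
      have h := (CharP.natCast_eq_natCast F 3 (a := T.card) (b := 1)).1 (by rw [hsum, Nat.cast_one])
      simpa [Nat.ModEq] using h
    have h4 : T.card = 4 := by omega
    obtain ⟨i, hi⟩ := (Finset.card_eq_one (s := Tᶜ)).1 (by rw [Finset.card_compl, h4]; simp)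
    have hiT : ∀ j, x j = 0 ↔ j = i := fun j => by
      have h' : j ∈ Tᶜ ↔ j = i := by rw [hi, Finset.mem_singleton]
      simpa [hT] using h'
    exact ⟨i, (hiT i).2 rfl, fun j hj h => hj ((hiT j).1 h)⟩
  set σ := Equiv.swap 0 i with hσ
  set t : Fin 5 → F := fun k => if k = 0 then 1 else x (σ k) with ht
  have hnz : ∀ k : Fin 5, k ≠ 0 → x (σ k) ≠ 0 := fun k hk =>
    hothers _ fun h => hk (σ.injective (h.trans (Equiv.swap_apply_left 0 i).symm))
  have hts : ∀ k, t k * t k = 1 := fun k => by
    by_cases hk : k = 0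
    · simp [ht, hk]
    · simp only [ht, if_neg hk]
      exact (hsq _).resolve_left (hnz k hk)
  refine (R.relabel σ t hts).sp_of_three_half hq h3 ?_
  convert R.orb_relabel σ t hts hx using 1
  funext k
  have hk' : k ≠ 0 → t k * x (σ k) = 1 := fun hk => by
    simp only [ht, if_neg hk]
    exact (hsq _).resolve_left (hnz k hk)
  fin_cases k
  · simp [hσ, hi]
  all_goals exact (hk' (by decide)).symm

end Fr

end H48.ExtraFour
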