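import Mathlib
import Cfsg.Agent.H48.ExtraFour.Endgame
import Cfsg.Agent.H48.ExtraFour.Three
import Cfsg.Agent.H47.SymSp
import Cfsg.Agent.H47.SymGam
import Cfsg.Agent.H49.RegularCentralizer

/-!
# The normaliser of the extraspecial group of order 32 and minus type is maximal in `Sp₄(p)`
-/

set_option autoImplicit false
set_option linter.unusedSectionVars false
set_option linter.style.haveILetI false

open Matrix
open scoped MatrixGroups
open H49 (adjS adjS_mul adjS_one adjS_add adjS_smul adjS_zero adjS_sub adjS_neg adjS_adjS)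

namespace H48.ExtraFour

variable {F : Type*} [Field F] [Fintype F]

local notation "SI" => (Fin 2 ⊕ Fin 2)
local notation "MS" => Matrix (Fin 2 ⊕ Fin 2) (Fin 2 ⊕ Fin 2) F

variable {R : Subgroup (GL (Fin 2 ⊕ Fin 2) F)}

/-- A matrix expanded over the group. -/
lemma expand (S : H47.Sym4 R 2) [Fintype R] (s : MS) :
    (8 : F) • s = ∑ u : R, (s * (((u : GL SI F)⁻¹ : GL SI F) : MS)).trace • ((u : GL SI F) : MS) := by
  classical
  haveI := S.nonempty
  ext i j
  have hcol : ∀ k l, ∑ u : R, ((u : GL SI F) : MS) i j * (((u : GL SI F)⁻¹ : GL SI F) : MS) l k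
      = if j = l ∧ i = k then (8 : F) else 0 := by
    intro k l
    have h := congrFun (congrFun (S.sum_conj (Matrix.single j l (1 : F))) i) k
    simp only [Matrix.sum_apply, Matrix.smul_apply, Matrix.one_apply, smul_eq_mul] at h
    have hterm : ∀ u : R, (((u : GL SI F) : MS) * Matrix.single j l (1 : F) * (((u : GL SI F)⁻¹ : GL SI F) : MS)) i k
        = ((u : GL SI F) : MS) i j * (((u : GL SI F)⁻¹ : GL SI F) : MS) l k := fun u => by
      rw [Matrix.mul_assoc, Matrix.mul_apply, Finset.sum_eq_single j (fun a _ ha => by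
        simp [Matrix.mul_apply, Matrix.single_apply, Ne.symm ha]) (by simp), Matrix.single_mul_apply_same, one_mul]
    rw [Finset.sum_congr rfl fun u _ => hterm u] at h
    rw [h]
    by_cases hjl : j = l
    · subst hjl
      rw [Matrix.trace_single_eq_same]
      by_cases hik : i = k <;> simp [hik] <;> norm_num
    · rw [Matrix.trace_single_eq_of_ne _ _ _ hjl]
      simp [hjl]
  rw [Matrix.smul_apply, Matrix.sum_apply]
  simp only [Matrix.smul_apply, Matrix.trace, Matrix.diag, Matrix.mul_apply, smul_eq_mul, Finset.sum_mul]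
  rw [Finset.sum_comm, Finset.sum_congr rfl fun k _ => Finset.sum_comm,
    Finset.sum_congr rfl fun k _ => Finset.sum_congr rfl fun l _ => show
      ∑ u : R, s k l * (((u : GL SI F)⁻¹ : GL SI F) : MS) l k * ((u : GL SI F) : MS) i j
        = s k l * (if j = l ∧ i = k then (8 : F) else 0) by
      rw [← hcol, Finset.mul_sum]; exact Finset.sum_congr rfl fun u _ => by ring]
  rw [Finset.sum_eq_single i (fun a _ ha => by simp [Ne.symm ha]) (by simp),
    Finset.sum_eq_single j (fun a _ ha => by simp [Ne.symm ha]) (by simp)]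
  simp [mul_comm]

/-- The frame of an overgroup of the normaliser. -/
theorem fr_of_gam (S : H47.Sym4 R 2) (hRf : R ≤ Cfsg.spGL 2 F) (hm : H47.MinusCond R) {Γ : Fin 5 → GL SI F}
    (hΓ : H47.Gam R Γ) {M : Subgroup (GL SI F)} (hNM : Cfsg.Geo.subgroupNormalizer R ⊓ Cfsg.spGL 2 F ≤ M)
    (hM : M ≤ Cfsg.spGL 2 F) : Fr M (fun i => (Γ i : MS)) := by
  classical
  haveI := S.finite
  haveI : Fintype R := Fintype.ofFinite _
  have h8 : (8 : F) ≠ 0 := by
    rw [show (8 : F) = 2 * (2 * 2) by norm_num]; exact mul_ne_zero S.two (mul_ne_zero S.two S.two)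
  refine
    { two := S.two
      sub := hM
      sq := hΓ.sq
      anti := hΓ.anti
      adj := fun i => S.adjS_self hRf (hΓ.mem i) (hΓ.sq i)
      mem := fun i => ⟨Γ i, hNM ⟨Subgroup.le_normalizer (hΓ.mem i), hRf (hΓ.mem i)⟩, rfl⟩
      span := fun X hX ht => ?_
      scal := fun X hX => S.gam_commutant hΓ fun k => hX k.castSucc
      mono := fun X hX hperm => ?_ }
  · have hmem : ∃ x : Fin 5 → F, (8 : F) • X = fv (fun i => (Γ i : MS)) x := by
      rw [expand S X]
      refine Finset.sum_induction _ (fun Y => ∃ x : Fin 5 → F, Y = fv (fun i => (Γ i : MS)) x) ?_ ?_ ?_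
      · rintro _ _ ⟨x, rfl⟩ ⟨y, rfl⟩
        exact ⟨x + y, (fv_add _ x y).symm⟩
      · exact ⟨0, by simp [fv]⟩
      · rintro ⟨u, hu⟩ -
        show ∃ x : Fin 5 → F, (X * ((u⁻¹ : GL SI F) : MS)).trace • (u : MS) = fv _ x
        by_cases h0 : (X * ((u⁻¹ : GL SI F) : MS)).trace = 0
        · exact ⟨0, by rw [h0, zero_smul]; simp [fv]⟩
        have huinv : ((u⁻¹ : GL SI F) : MS) = adjS (u : MS) := (H47.adjS_eq_inv (hRf hu)).symm
        have huu : (u : MS) * u = 1 := by
          refine (S.sq u hu).resolve_right fun h => h0 ?_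
          rw [huinv, S.adjS_skew hRf hu h, Matrix.mul_neg, Matrix.trace_neg]
          have h1 : (X * (u : MS)).trace = -((X * (u : MS)).trace) := by
            conv_lhs => rw [← H47.adjS_trace, H49.adjS_mul, S.adjS_skew hRf hu h, hX, Matrix.neg_mul, Matrix.trace_neg,
              Matrix.trace_mul_comm]
          have : (2 : F) * (X * (u : MS)).trace = 0 := by linear_combination h1
          rw [(mul_eq_zero.mp this).resolve_left S.two, neg_zero]
        by_cases hsc : ∃ c : F, (u : MS) = c • 1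
        · obtain ⟨c, hc⟩ := hsc
          refine absurd ?_ h0
          rw [huinv, hc, adjS_smul, adjS_one, Matrix.mul_smul, Matrix.mul_one, Matrix.trace_smul, ht, smul_zero]
        · push Not at hsc
          obtain ⟨i, hi | hi⟩ := S.invol_cases rfl hm hΓ hu huu hsc
          · exact ⟨Pi.single i (X * ((u⁻¹ : GL SI F) : MS)).trace, by rw [fv_single, hi]⟩
          · exact ⟨Pi.single i (-(X * ((u⁻¹ : GL SI F) : MS)).trace), by rw [fv_single, hi, smul_neg, neg_smul]⟩
    obtain ⟨x, hx⟩ := hmem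
    refine ⟨(8 : F)⁻¹ • x, ?_⟩
    rw [fv_smul, ← hx, smul_smul, inv_mul_cancel₀ h8, one_smul]
  · have hX' : X * adjS X = 1 := mul_eq_one_comm.mp hX
    let g : GL SI F := ⟨X, adjS X, hX', hX⟩
    have hgs : g ∈ Cfsg.spGL 2 F := H47.mem_spGL_adj.mpr hX
    refine ⟨g, hNM ⟨S.gam_normalize hΓ fun k => ?_, hgs⟩, rfl⟩
    obtain ⟨j, s, hj⟩ := hperm k.castSucc
    have hv : ((g * Γ k.castSucc * g⁻¹ : GL SI F) : MS) = s • (Γ j : MS) := hj
    have hs2 : s * s = 1 := by
      have h1 : X * (Γ k.castSucc : MS) * adjS X * (X * (Γ k.castSucc : MS) * adjS X) = 1 := by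
        rw [show X * (Γ k.castSucc : MS) * adjS X * (X * (Γ k.castSucc : MS) * adjS X)
          = X * ((Γ k.castSucc : MS) * (adjS X * X) * (Γ k.castSucc : MS)) * adjS X by simp only [Matrix.mul_assoc],
          hX, Matrix.mul_one, hΓ.sq, Matrix.mul_one, hX']
      rw [hj, smul_mul_smul_comm, hΓ.sq] at h1
      simpa using congrFun (congrFun h1 (Sum.inl 0)) (Sum.inl 0)
    rcases mul_self_eq_one_iff.1 hs2 with rfl | rfl
    · rw [show g * Γ k.castSucc * g⁻¹ = Γ j from Units.ext (hv.trans (one_smul _ _))]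
      exact hΓ.mem j
    · rw [show g * Γ k.castSucc * g⁻¹ = -Γ j from
        Units.ext (hv.trans (by rw [neg_one_smul, Units.val_neg]))]
      exact S.neg_mem' (hΓ.mem j)

/-- Maximality of the normaliser. -/
theorem extraspecial_maximal (hodd : Odd (Fintype.card F)) {p : ℕ} (hp : p.Prime) (hq : Fintype.card F = p)
    (hst : Cfsg.Geo.IsSymplecticTypeGroup 2 R)
    (habs : Cfsg.Geo.ActsAbsolutelyIrreducibly (Cfsg.Geo.matrixSet R)) (hRf : R ≤ Cfsg.spGL 2 F)
    (hcard : Nat.card R = 32) (hcen : Nat.card (Subgroup.center R) = 2) (hminus : Cfsg.Geo.IsOfMinusType 2 R) :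
    Cfsg.Geo.IsMaximalIn (Cfsg.spGL 2 F) (Cfsg.Geo.subgroupNormalizer R ⊓ Cfsg.spGL 2 F) := by
  classical
  haveI : Fact p.Prime := ⟨hp⟩
  haveI : CharP F p := charP_of_card_eq_prime hq
  have h2 : (2 : F) ≠ 0 := H49.two_ne_zero_of_odd hodd
  have hp2 : p ≠ 2 := by rintro rfl; rw [hq] at hodd; exact absurd hodd (by decide)
  have S : H47.Sym4 R 2 := H47.sym4_of_data (by simp) h2 hst habs (Or.inl rfl) hcard hcen
  have hm : H47.MinusCond R := S.minusCond_of_type hminus
  obtain ⟨Γ, hΓ⟩ := S.exists_gam_minus hm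
  set N := Cfsg.Geo.subgroupNormalizer R ⊓ Cfsg.spGL 2 F with hN
  refine ⟨lt_of_le_of_ne inf_le_right fun h => ?_, fun M hNM hM => ?_⟩
  · obtain ⟨x, hx, u, v, hvu, hxv, -, hx1, -⟩ := H47.exists_sp_transvection (F := F) (p := p)
    rw [← h] at hx
    exact S.no_transvection hx.1 hvu hxv hx1
  have R' := fr_of_gam S hRf hm hΓ hNM hM
  suffices Cfsg.spGL 2 F ≤ M ∨ ∀ x : Fin 5 → F, Orb M (fun i => (Γ i : MS)) x → AxisV x by
    rcases this with h | hax
    · exact Or.inr (le_antisymm hM h)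
    refine Or.inl (le_antisymm (fun g hg => ⟨S.gam_normalize hΓ fun k => ?_, hM hg⟩) hNM)
    have hcls := R'.cls_conj (R'.cls_e k.castSucc) ⟨g, hg, rfl⟩
    obtain ⟨w, hw⟩ := R'.cls_exists hcls
    have hwO : Orb M (fun i => (Γ i : MS)) w := by show Cls M _ _; rw [← hw]; exact hcls
    obtain ⟨j, hj⟩ := hax w hwO
    have hn := R'.orb_norm hwO
    rw [axis_eq_single hj] at hn hw
    have hn' : w j * w j = 1 := by simpa using hn
    rw [fv_single] at hw
    have hv : ((g * Γ k.castSucc * g⁻¹ : GL SI F) : MS) = w j • (Γ j : MS) := by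
      rw [Units.val_mul, Units.val_mul, ← H47.adjS_eq_inv (hM hg)]
      exact hw
    rcases mul_self_eq_one_iff.1 hn' with h1 | h1 <;> rw [h1] at hv
    · rw [show g * Γ k.castSucc * g⁻¹ = Γ j from Units.ext (hv.trans (one_smul _ _))]
      exact hΓ.mem j
    · rw [show g * Γ k.castSucc * g⁻¹ = -Γ j from Units.ext (hv.trans (by rw [neg_one_smul, Units.val_neg]))]
      exact S.neg_mem' (hΓ.mem j)
  by_cases hp3 : p = 3
  · subst hp3
    exact R'.sp_or_axis_three hq
  have h5 : 5 ≤ p := by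
    have := hp.two_le
    have h4 : p ≠ 4 := fun h => by rw [h] at hp; exact absurd hp (by decide)
    omega
  by_cases hF : ∀ e' : Fin 5 → MS, Fr M e' → Facts M e'
  · exact Or.inr fun x hx => R'.orb_axis hq h5 hF hx
  push Not at hF
  obtain ⟨e', he', hnF⟩ := hF
  exact Or.inl ((he'.sp_or_facts p hq h5).resolve_right hnF)

end H48.ExtraFour
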